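import Cfsg.Agent.SpecNine.Shape
import Cfsg.Agent.OrderBC.Sphere
import Cfsg.Agent.Geo.OCounts

/-!
The orders in `Ω₉(q)`, `q` odd, divide one of fourteen numbers.
-/

set_option autoImplicit false
set_option linter.style.haveILetI false
set_option linter.unusedSectionVars false
set_option maxHeartbeats 1000000

namespace CfsgLib.SpecNine

open Module QuadraticMap CfsgLib.Forms CfsgLib.Quad
open CfsgLib.SpecSpEight (torN toEnd toEnd_apply toEnd_injective pow_dvd_eq_one)

universe u v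

variable {F : Type u} [Field F] [Fintype F] {p : ℕ} [hp : Fact p.Prime] [CharP F p]

/-- The fourteen orders. -/
def targets (q p : ℕ) : List ℕ :=
  [(q ^ 4 + 1) / 2, (q ^ 4 - 1) / 2, (q ^ 3 + 1) * ((q - 1) / 2), (q ^ 3 - 1) * ((q + 1) / 2),
    p * ((q ^ 3 + 1) / 2), p * ((q ^ 3 - 1) / 2), p * ((q ^ 2 + 1) * ((q - 1) / 2)),
    p * ((q ^ 2 + 1) * ((q + 1) / 2)), p * (q ^ 2 - 1), p ^ Nat.clog p 5 * ((q ^ 2 + 1) / 2),
    p ^ Nat.clog p 5 * ((q ^ 2 - 1) / 2), p ^ Nat.clog p 7 * ((q + 1) / 2), p ^ Nat.clog p 7 * ((q - 1) / 2),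
    p ^ Nat.clog p 9]

/-- Halving: a regular semisimple element of the commutator subgroup. -/
theorem half {V : Type v} [AddCommGroup V] [Module F V] [FiniteDimensional F V] {Q : QuadraticForm F V}
    (h2 : (2 : F) ≠ 0) {W X : Submodule F V} (hc : IsCompl W X)
    (horth : ∀ w ∈ W, ∀ x ∈ X, polar Q w x = 0) (hWn : (LinearMap.BilinForm.restrict (polarBilin Q) W).Nondegenerate)
    {s : oGroup Q} (hs : s ∈ commutator (oGroup Q)) {o h : ℕ} (hh : 1 ≤ h) (hdim : finrank F W = 2 * h)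
    (ho : s ^ o = 1) (hW : ∀ w ∈ W, s.1 w ∈ W) (hX : ∀ x ∈ X, s.1 x = x)
    (hreg : ∀ w ∈ W, w ≠ 0 → ∀ i : ℕ, (s ^ i).1 w = w → o ∣ i) (hco : o.Coprime (Fintype.card F)) :
    o ∣ (Fintype.card F ^ h - 1) / 2 ∨ o ∣ (Fintype.card F ^ h + 1) / 2 := by
  classical
  haveI : Finite V := Module.finite_of_finite F
  set q := Fintype.card F with hqdef
  have hqodd : Odd q := Nat.odd_iff.2 (by simpa [Nat.card_eq_fintype_card, hqdef] using odd_card_of_two_ne (F := F) h2)
  have hqh : Odd (q ^ h) := hqodd.pow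
  rcases Nat.lt_or_ge 1 o with ho1 | ho1
  swap
  · rcases Nat.eq_zero_or_pos o with rfl | ho0
    · rw [Nat.coprime_zero_left] at hco
      have : 1 < q := Fintype.one_lt_card
      omega
    · obtain rfl : o = 1 := by omega
      exact Or.inl (one_dvd _)
  set QW := Q.comp W.subtype with hQW
  have hnd : (polarBilin QW).Nondegenerate := by
    have hpol : polarBilin QW = LinearMap.BilinForm.restrict (polarBilin Q) W := LinearMap.ext fun x => LinearMap.ext fun y => by
      simp [hQW, polar]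
    rw [hpol]; exact hWn
  obtain ⟨ε, hε, hE⟩ := CfsgLib.Geo.OCounts.exists_etype hnd hdim
  have hcnt := hE.1 1 one_ne_zero
  set N := Nat.card {w : W // QW w = 1} with hN
  have hdvd : o ∣ N := by
    have hd := CfsgLib.OrderBC.dvd_sphere (g := CfsgLib.OrderBC.oRes s hW) (m := o)
      (Subtype.ext (LinearEquiv.ext fun w => Subtype.ext (by rw [CfsgLib.OrderBC.oRes_pow_apply, ho]; rfl)))
      (fun w hw i hi => hreg _ w.2 (fun e => hw (Subtype.ext e)) i
        (by rw [← CfsgLib.OrderBC.oRes_pow_apply s hW, hi])) ho1 1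
    refine hd.trans (dvd_of_eq (Nat.card_congr (Equiv.subtypeEquivRight fun w => ?_)))
    rw [and_iff_left_iff_imp]
    rintro e rfl
    exact one_ne_zero (by rw [← e, QuadraticMap.map_zero] : (1 : F) = 0)
  have key : 2 * o ∣ N ∨ Odd o := by
    rcases Nat.even_or_odd o with hev | hodd
    · left
      obtain ⟨M, hM⟩ := hdvd
      rcases Nat.even_or_odd M with ⟨t, rfl⟩ | hMo
      · exact ⟨t, by rw [hM]; ring⟩
      · exfalso
        refine CfsgLib.OrderBC.sphereSign_ne_one hc horth h2 hev (by omega) ho hW hX hreg one_ne_zero hMo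
          (by rw [← hQW, ← hN, hM, mul_comm]) ?_
        exact Abelianization.commutator_subset_ker (sphereSign Q 1) hs
    · exact Or.inr hodd
  have h1 : 1 ≤ q ^ h := Nat.one_le_pow _ _ Fintype.card_pos
  have hfin : ∀ d : ℕ, Even d → q * N = q ^ h * d → o ∣ d / 2 := by
    rintro d ⟨t, rfl⟩ hd
    rw [show (t + t) / 2 = t by omega]
    rcases key with hk | hk
    · have hc2 : (2 * o).Coprime (q ^ h) := (Nat.Coprime.mul_left (Nat.coprime_two_left.2 hqodd) hco).pow_right _
      have := hc2.dvd_of_dvd_mul_left (hd ▸ hk.mul_left q)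
      exact Nat.dvd_of_mul_dvd_mul_left two_pos (by rwa [two_mul t])
    · have := (hco.pow_right h).dvd_of_dvd_mul_left (hd ▸ hdvd.mul_left q)
      exact (Nat.coprime_two_right.2 hk).dvd_of_dvd_mul_left (by rwa [two_mul t])
  rw [Nat.card_eq_fintype_card, ← hqdef, two_mul, pow_add] at hcnt
  rcases hε with rfl | rfl
  · refine Or.inl (hfin _ ?_ ?_)
    · obtain ⟨c, hc⟩ := hqh; exact ⟨c, by omega⟩
    · zify [h1]; rw [hcnt]; ring
  · refine Or.inr (hfin _ hqh.add_one ?_)
    zify; rw [hcnt]; ring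

/-- Halving for a shape with a single semisimple torus. -/
theorem shape_half {V : Type v} [AddCommGroup V] [Module F V] [FiniteDimensional F V] {Q : QuadraticForm F V}
    (h2 : (2 : F) ≠ 0) (hQ : (polarBilin Q).Nondegenerate) {g : oGroup Q} (hg : g ∈ commutator (oGroup Q))
    (S : NShape p (toEnd Q g)) {h : ℕ} {ε : Bool} (hT : S.T = [(h, ε, 1)]) (hb : S.b = 0) :
    toEnd Q g ^ (p ^ Nat.clog p S.a * ((Fintype.card F ^ h - 1) / 2)) = 1 ∨
      toEnd Q g ^ (p ^ Nat.clog p S.a * ((Fintype.card F ^ h + 1) / 2)) = 1 := by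
  classical
  haveI := finite_oGroup Q
  have hh : 1 ≤ h := (S.pos _ (by rw [hT]; exact List.mem_singleton_self _)).1
  set c := p ^ Nat.clog p S.a
  set N0 := torN (Fintype.card F) h ε
  have hN0 : (toEnd Q g) ^ (c * N0) = 1 := by
    refine S.rel _ (fun x hx => ?_) (dvd_mul_right _ _) ?_ (fun h' => by omega)
    · rw [hT, List.mem_singleton] at hx
      subst hx
      rw [Nat.clog_one_right, pow_zero, mul_one]
      exact dvd_mul_left _ _
    · have := S.nb_le
      rw [show S.nb = 0 by omega, Nat.clog_zero_right, pow_zero]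
      exact one_dvd _
  set s := g ^ c
  have hsG : ∀ i, toEnd Q (s ^ i) = (toEnd Q g) ^ (c * i) := fun i => by rw [← pow_mul, map_pow]
  have hcop : N0.Coprime p := CfsgLib.SpecSpEight.torN_coprime hh ε
  set o := orderOf s with ho
  have hoN : o ∣ N0 := orderOf_dvd_of_pow_eq_one (toEnd_injective Q (by rw [hsG, hN0, map_one]))
  have hop : o.Coprime p := hcop.coprime_dvd_left hoN
  have hpo : ¬ p ∣ o := hp.out.coprime_iff_not_dvd.1 hop.symm
  suffices hh' : o ∣ (Fintype.card F ^ h - 1) / 2 ∨ o ∣ (Fintype.card F ^ h + 1) / 2 by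
    refine hh'.imp (fun hd => ?_) (fun hd => ?_) <;>
    · rw [← hsG, orderOf_dvd_iff_pow_eq_one.1 hd, map_one]
  by_cases hs1 : s = 1
  · exact Or.inl (by rw [ho, hs1, orderOf_one]; exact one_dvd _)
  have hGo : (toEnd Q g) ^ (c * o) = 1 := by rw [← hsG, pow_orderOf_eq_one, map_one]
  have hpure := S.pure _ hT hb rfl
  have hsS := CfsgLib.SpecSpEight.polar_symm Q
  have hgi : ∀ u w, polarBilin Q ((toEnd Q g) u) ((toEnd Q g) w) = polarBilin Q u w := fun u w => by
    rw [toEnd_apply, toEnd_apply, polarBilin_apply_apply, polarBilin_apply_apply, polar_oGroup]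
  have hsi : ((toEnd Q g) ^ c) ^ o = 1 := by rw [← pow_mul, hGo]
  have hoF : (o : F) ≠ 0 := fun e => hpo ((CharP.cast_eq_zero_iff F p o).1 e)
  have hidem := avgE_idem hsi hoF
  have hadj := avgE_adj hsS (pow_isom hgi c) hsi hoF
  obtain ⟨hec, horth, -, hndK, hfixr⟩ := split hsS hQ hidem hadj
  have hrange := range_avgE hsi hoF
  have hXdim : finrank F (LinearMap.ker ((toEnd Q g) ^ c - 1)) = S.a :=
    (hpure c o hpo hGo).resolve_left fun e => hs1 (toEnd_injective Q (by
      rw [map_one, show s = s ^ 1 from (pow_one s).symm, hsG, mul_one, e]))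
  have hKdim : finrank F (LinearMap.ker (avgE ((toEnd Q g) ^ c) o)) = 2 * h := by
    have h1 := Submodule.finrank_add_eq_of_isCompl hec
    rw [hrange, hXdim] at h1
    have h3 := S.dim
    rw [hT, hb] at h3
    simp [wsum] at h3
    omega
  have hsapp : ∀ i v, (s ^ i).1 v = ((toEnd Q g) ^ (c * i)) v := fun i v => by rw [← hsG]; rfl
  have hs1app : ∀ v, s.1 v = ((toEnd Q g) ^ c) v := fun v => by
    have := hsapp 1 v; rwa [pow_one, mul_one] at this
  refine half h2 hec.symm (fun w hw x hx => (horth x hx w hw).2) hndK (Subgroup.pow_mem _ hg c) hh hKdim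
    (pow_orderOf_eq_one s) (fun w hw => ?_) (fun x hx => ?_) (fun w hw hw0 i hi => ?_) ?_
  · rw [LinearMap.mem_ker] at hw ⊢
    rw [hs1app, ← Module.End.mul_apply, ← (commute_avgE (Commute.refl ((toEnd Q g) ^ c)) o).eq, Module.End.mul_apply, hw,
      map_zero]
  · rw [hrange, LinearMap.mem_ker, LinearMap.sub_apply, Module.End.one_apply, sub_eq_zero] at hx
    rw [hs1app, hx]
  · by_contra hne
    have hd := (hpure (c * i) o hpo (by rw [mul_right_comm, pow_mul, hGo, one_pow])).resolve_left fun e =>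
      hne (orderOf_dvd_of_pow_eq_one (toEnd_injective Q (by rw [hsG, e, map_one])))
    have hle : LinearMap.ker ((toEnd Q g) ^ c - 1) ≤ LinearMap.ker ((toEnd Q g) ^ (c * i) - 1) := fun x hx => by
      rw [LinearMap.mem_ker, LinearMap.sub_apply, Module.End.one_apply, sub_eq_zero] at hx ⊢
      rw [pow_mul]
      clear hi hne hd
      induction i with
      | zero => rfl
      | succ i ih => rw [pow_succ, Module.End.mul_apply, hx, ih]
    have heq := Submodule.eq_of_le_of_finrank_eq hle (hXdim.trans hd.symm)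
    have hwX : w ∈ LinearMap.ker ((toEnd Q g) ^ c - 1) := by
      rw [heq, LinearMap.mem_ker, LinearMap.sub_apply, Module.End.one_apply, sub_eq_zero, ← hsapp, hi]
    exact hw0 (Submodule.disjoint_def.1 hec.disjoint w (hrange.symm ▸ hwX) hw)
  · obtain ⟨f, -, hf⟩ := FiniteField.card F p
    rw [hf]
    exact hop.pow_right _

section arith

theorem clog_small {p x : ℕ} (hp : 3 ≤ p) (hx : x ≤ 3) : p ^ Nat.clog p x ∣ p := by
  have h : Nat.clog p x ≤ 1 := Nat.clog_le_of_le_pow (by rw [pow_one]; omega)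
  calc p ^ Nat.clog p x ∣ p ^ 1 := pow_dvd_pow p h
    _ = p := pow_one p

theorem clog_mono_dvd {p x y : ℕ} (h : x ≤ y) : p ^ Nat.clog p x ∣ p ^ Nat.clog p y :=
  pow_dvd_pow p (Nat.clog_mono_right p h)

variable {q : ℕ} (hq : Odd q)
include hq

theorem sub_dvd_half_sq : (q - 1) ∣ (q ^ 2 - 1) / 2 := by
  obtain ⟨k, rfl⟩ := hq
  rw [show (2 * k + 1) ^ 2 - 1 = 2 * (2 * k * (k + 1)) by
    have : (2 * k + 1) ^ 2 = 2 * (2 * k * (k + 1)) + 1 := by ring
    omega, Nat.mul_div_cancel_left _ two_pos, Nat.add_sub_cancel]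
  exact dvd_mul_right _ _

theorem add_dvd_half_sq : (q + 1) ∣ (q ^ 2 - 1) / 2 := by
  obtain ⟨k, rfl⟩ := hq
  rw [show (2 * k + 1) ^ 2 - 1 = 2 * (2 * k * (k + 1)) by
    have : (2 * k + 1) ^ 2 = 2 * (2 * k * (k + 1)) + 1 := by ring
    omega, Nat.mul_div_cancel_left _ two_pos]
  exact ⟨k, by ring⟩

theorem tor_one_dvd (ε : Bool) : torN q 1 ε ∣ (q ^ 2 - 1) / 2 := by
  cases ε
  · simpa [torN] using sub_dvd_half_sq hq
  · simpa [torN] using add_dvd_half_sq hq

theorem even_half_sq : Even ((q ^ 2 - 1) / 2) :=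
  even_iff_two_dvd.2 (dvd_trans (even_iff_two_dvd.1 (Nat.Odd.sub_odd hq odd_one)) (sub_dvd_half_sq hq))

theorem half_sq_dvd_four : (q ^ 2 + 1) * ((q ^ 2 - 1) / 2) = (q ^ 4 - 1) / 2 := by
  have hev : 2 ∣ q ^ 2 - 1 := even_iff_two_dvd.1 (Nat.Odd.sub_odd hq.pow odd_one)
  rw [← Nat.mul_div_assoc _ hev]
  congr 1
  have h1 : 1 ≤ q ^ 2 := hq.pow.pos
  have h4 : 1 ≤ q ^ 4 := hq.pow.pos
  zify [h1, h4]; ring

theorem sq_sub_dvd_four : q ^ 2 - 1 ∣ (q ^ 4 - 1) / 2 := by
  rw [← half_sq_dvd_four hq]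
  obtain ⟨t, ht⟩ := even_iff_two_dvd.1 (hq.pow (n := 2)).add_one
  obtain ⟨r, hr⟩ := even_iff_two_dvd.1 (Nat.Odd.sub_odd (hq.pow (n := 2)) odd_one)
  rw [ht, hr, Nat.mul_div_cancel_left _ two_pos]
  exact ⟨t, by ring⟩

theorem tor_two_dvd {h : ℕ} (hh : 1 ≤ h) (h2 : h ≤ 2) (ε : Bool) : torN q h ε ∣ (q ^ 4 - 1) / 2 := by
  rcases (show h = 1 ∨ h = 2 by omega) with rfl | rfl
  · exact (tor_one_dvd hq ε).trans (half_sq_dvd_four hq ▸ dvd_mul_left _ _)
  · cases ε
    · simpa [torN] using sq_sub_dvd_four hq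
    · simpa [torN] using (half_sq_dvd_four hq ▸ dvd_mul_right _ _ : q ^ 2 + 1 ∣ (q ^ 4 - 1) / 2)

theorem tor_three_one (ε ε' : Bool) :
    torN q 3 ε ∣ (if ε then (q ^ 3 + 1) * ((q - 1) / 2) else (q ^ 3 - 1) * ((q + 1) / 2)) ∧
      torN q 1 ε' ∣ (if ε then (q ^ 3 + 1) * ((q - 1) / 2) else (q ^ 3 - 1) * ((q + 1) / 2)) := by
  obtain ⟨k, rfl⟩ := hq
  have e3 : (2 * k + 1) ^ 3 + 1 = (2 * k + 2) * ((2 * k + 1) ^ 2 - 2 * k) := by
    have : 2 * k ≤ (2 * k + 1) ^ 2 := by nlinarith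
    zify [this]; ring
  have e3' : (2 * k + 1) ^ 3 - 1 = 2 * k * ((2 * k + 1) ^ 2 + (2 * k + 1) + 1) := by
    have : 1 ≤ (2 * k + 1) ^ 3 := Nat.one_le_pow _ _ (by omega)
    zify [this]; ring
  have e4 : (2 * k + 1) ^ 3 + 1 = 2 * ((k + 1) * ((2 * k + 1) ^ 2 - 2 * k)) := by rw [e3]; ring
  have e4' : (2 * k + 1) ^ 3 - 1 = 2 * (k * ((2 * k + 1) ^ 2 + (2 * k + 1) + 1)) := by rw [e3']; ring
  have ek : (2 * k + 1 - 1) / 2 = k := by omega
  have ek' : (2 * k + 1 + 1) / 2 = k + 1 := by omega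
  rw [ek, ek']
  cases ε <;> cases ε' <;>
    simp only [torN, pow_one, if_true, Bool.false_eq_true, if_false, Nat.add_sub_cancel,
      show 2 * k + 1 + 1 = 2 * (k + 1) by ring]
  · exact ⟨dvd_mul_right _ _, by rw [e3']; exact (dvd_mul_right _ _).mul_right _⟩
  · exact ⟨dvd_mul_right _ _, by rw [e4']; exact mul_dvd_mul (dvd_mul_right _ _) dvd_rfl⟩
  · exact ⟨dvd_mul_right _ _, by rw [e4]; exact mul_dvd_mul (dvd_mul_right _ _) dvd_rfl⟩
  · exact ⟨dvd_mul_right _ _, by rw [e3, show 2 * (k + 1) = 2 * k + 2 by ring]; exact (dvd_mul_right _ _).mul_right _⟩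

/-- The mixed number for a torus of degree two and one of degree one. -/
theorem tor_two_one (ε ε' : Bool) : ∃ x : ℕ, p * x ∈ targets q p ∧ Even x ∧
    torN q 2 ε ∣ x ∧ torN q 1 ε' ∣ x := by
  have hev : Even (q ^ 2 + 1) := hq.pow.add_one
  cases ε
  · refine ⟨q ^ 2 - 1, by simp [targets], Nat.Odd.sub_odd hq.pow odd_one, dvd_of_eq (by simp [torN]), ?_⟩
    exact (tor_one_dvd hq ε').trans (Nat.div_dvd_of_dvd (even_iff_two_dvd.1 (Nat.Odd.sub_odd hq.pow odd_one)))
  · obtain ⟨k, rfl⟩ := hq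
    have ek : (2 * k + 1 - 1) / 2 = k := by omega
    have ek' : (2 * k + 1 + 1) / 2 = k + 1 := by omega
    cases ε'
    · refine ⟨((2 * k + 1) ^ 2 + 1) * k, by simp [targets, ek], hev.mul_right _, by simp [torN], ?_⟩
      simp only [torN, pow_one, Bool.false_eq_true, if_false, Nat.add_sub_cancel]
      exact mul_dvd_mul (even_iff_two_dvd.1 hev) dvd_rfl
    · refine ⟨((2 * k + 1) ^ 2 + 1) * (k + 1), by simp [targets, ek'], hev.mul_right _, by simp [torN], ?_⟩
      simp only [torN, pow_one, if_true, show 2 * k + 1 + 1 = 2 * (k + 1) by ring]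
      exact mul_dvd_mul (even_iff_two_dvd.1 hev) dvd_rfl

theorem even_half (k' : ℕ) : Even (p ^ k' * ((q + 1) / 2)) ∨ Even (p ^ k' * ((q - 1) / 2)) := by
  obtain ⟨k, rfl⟩ := hq
  rw [show (2 * k + 1 - 1) / 2 = k by omega, show (2 * k + 1 + 1) / 2 = k + 1 by omega]
  rcases Nat.even_or_odd k with h | h
  · exact Or.inr (h.mul_left _)
  · exact Or.inl (h.add_one.mul_left _)

end arith

section lists

variable {T : List (ℕ × Bool × ℕ)} (hpos : ∀ x ∈ T, 1 ≤ x.1 ∧ 1 ≤ x.2.2)
include hpos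

theorem le_wsum {x : ℕ × Bool × ℕ} (hx : x ∈ T) : x.1 * x.2.2 ≤ wsum T :=
  List.le_sum_of_mem (List.mem_map_of_mem (f := fun y : ℕ × Bool × ℕ => y.1 * y.2.2) hx)

theorem wsum_erase {x : ℕ × Bool × ℕ} (hx : x ∈ T) : wsum T = x.1 * x.2.2 + wsum (T.erase x) := by
  have h := ((List.perm_cons_erase hx).map fun y : ℕ × Bool × ℕ => y.1 * y.2.2).sum_eq
  simpa [wsum] using h

theorem pair_le {x z : ℕ × Bool × ℕ} (hx : x ∈ T) (hz : z ∈ T) (hne : z ≠ x) :
    x.1 * x.2.2 + z.1 * z.2.2 ≤ wsum T := by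
  rw [wsum_erase hpos hx]
  have := le_wsum (T := T.erase x) (fun y hy => hpos y (List.mem_of_mem_erase hy)) ((List.mem_erase_of_ne hne).2 hz)
  omega

theorem only_two {x y z : ℕ × Bool × ℕ} (hx : x ∈ T) (hy : y ∈ T) (hyx : y ≠ x)
    (h : x.1 * x.2.2 + y.1 * y.2.2 = wsum T) (hz : z ∈ T) : z = x ∨ z = y := by
  by_contra hc
  push Not at hc
  have hpos' : ∀ w ∈ T.erase x, 1 ≤ w.1 ∧ 1 ≤ w.2.2 := fun w hw => hpos w (List.mem_of_mem_erase hw)
  have h1 := pair_le (T := T.erase x) hpos' ((List.mem_erase_of_ne hyx).2 hy) ((List.mem_erase_of_ne hc.1).2 hz) hc.2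
  have h2 := wsum_erase hpos hx
  have := Nat.mul_pos (hpos z hz).1 (hpos z hz).2
  omega

theorem only_one {x : ℕ × Bool × ℕ} (hx : x ∈ T) (h : x.1 * x.2.2 = wsum T) : T = [x] := by
  have h2 := wsum_erase hpos hx
  have h0 : T.erase x = [] := by
    refine List.eq_nil_iff_forall_not_mem.2 fun w hw => ?_
    have h3 := le_wsum (T := T.erase x) (fun y hy => hpos y (List.mem_of_mem_erase hy)) hw
    have := Nat.mul_pos (hpos w (List.mem_of_mem_erase hw)).1 (hpos w (List.mem_of_mem_erase hw)).2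
    omega
  have h3 := List.perm_cons_erase hx
  rw [h0] at h3
  exact List.perm_singleton.1 h3

end lists

/-- The orders of `Ω₉`. -/
theorem upper {V : Type v} [AddCommGroup V] [Module F V] [FiniteDimensional F V] {Q : QuadraticForm F V}
    (h2 : (2 : F) ≠ 0) (hQ : (polarBilin Q).Nondegenerate) (hV : finrank F V = 9) {g : oGroup Q}
    (hg : g ∈ commutator (oGroup Q)) : ∃ t ∈ targets (Fintype.card F) p, g ^ t = 1 := by
  suffices h : ∃ t ∈ targets (Fintype.card F) p, toEnd Q g ^ t = 1 by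
    obtain ⟨t, ht, h1⟩ := h
    exact ⟨t, ht, toEnd_injective Q (by rw [map_pow, h1, map_one])⟩
  have hgi : ∀ u w, polarBilin Q (toEnd Q g u) (toEnd Q g w) = polarBilin Q u w := fun u w => by
    rw [toEnd_apply, toEnd_apply, polarBilin_apply_apply, polarBilin_apply_apply, polar_oGroup]
  obtain ⟨S⟩ := nshape (p := p) h2 _ (polarBilin Q) (CfsgLib.SpecSpEight.polar_symm Q) hQ rfl (toEnd Q g) hgi
  have hdim := S.dim
  rw [hV] at hdim
  have hq : Odd (Fintype.card F) := Nat.odd_iff.2 (by simpa [Nat.card_eq_fintype_card] using odd_card_of_two_ne (F := F) h2)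
  have hp3 : 3 ≤ p := by
    rcases hp.out.eq_two_or_odd with h | h
    · subst h; exact absurd (CharP.cast_eq_zero F 2) (by exact_mod_cast h2)
    · have := hp.out.two_le; omega
  set q := Fintype.card F with hqdef
  have hbev : Even S.b := by
    have h1 : LinearMap.det (toEnd Q g) = 1 := by
      have h3 : detO Q g = 1 := Abelianization.commutator_subset_ker (detO Q) hg
      have h4 := congrArg Units.val h3
      rwa [detO_val, Units.val_one] at h4
    by_contra hb
    rw [S.det, (Nat.not_even_iff_odd.1 hb).neg_one_pow] at h1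
    exact h2 (by linear_combination -h1)
  obtain ⟨bb, hbb⟩ := hbev
  have hnb := S.nb_le
  have hnlt : 1 ≤ S.b → S.nb < S.b := S.nb_lt ⟨bb, hbb⟩
  have hone : ∀ {x : ℕ}, x ≤ 1 → ∀ M, p ^ Nat.clog p x ∣ M := fun hx M => by
    rw [Nat.clog_of_right_le_one hx, pow_zero]; exact one_dvd M
  have hsmall : ∀ {x : ℕ}, x ≤ 3 → ∀ M, p ^ Nat.clog p x ∣ p * M := fun hx M => (clog_small hp3 hx).mul_right M
  have hsingle : ∀ {h : ℕ} {ε : Bool}, (h, ε, 1) ∈ S.T → h = wsum S.T → S.T = [(h, ε, 1)] := fun hx he =>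
    only_one S.pos hx (by simpa using he)
  by_cases h4 : ∃ x ∈ S.T, 4 ≤ x.1
  · obtain ⟨⟨h, ε, L⟩, hx, hh⟩ := h4
    obtain ⟨-, hL⟩ := S.pos _ hx
    have hw := le_wsum S.pos hx
    simp only at hh hL hw
    have : h * 1 ≤ h * L := Nat.mul_le_mul_left _ hL
    obtain rfl : h = 4 := by omega
    obtain rfl : L = 1 := by omega
    have ha : S.a ≤ 1 := by omega
    rcases shape_half h2 hQ hg S (hsingle hx (by omega)) (by omega) with e | e <;>
      rw [Nat.clog_of_right_le_one ha, pow_zero, one_mul] at e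
    · exact ⟨_, by simp [targets, hqdef], e⟩
    · exact ⟨_, by simp [targets, hqdef], e⟩
  push Not at h4
  by_cases h3 : ∃ x ∈ S.T, 3 ≤ x.1
  · obtain ⟨⟨h, ε, L⟩, hx, hh⟩ := h3
    obtain ⟨-, hL⟩ := S.pos _ hx
    have hw := le_wsum S.pos hx
    have hlt := h4 _ hx
    simp only at hh hL hw hlt
    obtain rfl : h = 3 := by omega
    obtain rfl : L = 1 := by omega
    by_cases hs : S.b = 0 ∧ wsum S.T = 3
    · rcases shape_half h2 hQ hg S (hsingle hx hs.2.symm) hs.1 with e | e <;>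
        refine ⟨_, ?_, pow_dvd_eq_one e (mul_dvd_mul_right (clog_small hp3 (show S.a ≤ 3 by omega)) _)⟩
      · simp [targets, hqdef]
      · simp [targets, hqdef]
    have he := fun ε' => tor_three_one hq ε ε'
    refine ⟨if ε then (q ^ 3 + 1) * ((q - 1) / 2) else (q ^ 3 - 1) * ((q + 1) / 2),
      by cases ε <;> simp [targets, hqdef], S.rel _ (fun z hz => ?_) (hone (by omega) _) (hone (by omega) _)
        (fun _ => ?_)⟩
    · by_cases hzx : z = (3, ε, 1)
      · subst hzx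
        simp only [Nat.clog_one_right, pow_zero, mul_one]
        exact (he ε).1
      · have h1 := pair_le S.pos hx hz hzx
        obtain ⟨hz1, hz2⟩ := S.pos _ hz
        simp only at h1
        obtain ⟨zh, ze, zL⟩ := z
        simp only at h1 hz1 hz2 ⊢
        have : zh * 1 ≤ zh * zL := Nat.mul_le_mul_left _ hz2
        have : 1 * zL ≤ zh * zL := Nat.mul_le_mul_right _ hz1
        obtain rfl : zh = 1 := by omega
        obtain rfl : zL = 1 := by omega
        rw [Nat.clog_one_right, pow_zero, mul_one]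
        exact (he ze).2
    · cases ε
      · exact (Nat.Odd.sub_odd hq.pow odd_one).mul_right _
      · exact hq.pow.add_one.mul_right _
  push Not at h3
  by_cases hh2 : ∃ x ∈ S.T, 2 ≤ x.1
  · obtain ⟨⟨h, ε, L⟩, hx, hh⟩ := hh2
    obtain ⟨-, hL⟩ := S.pos _ hx
    have hw := le_wsum S.pos hx
    have hlt := h3 _ hx
    simp only at hh hL hw hlt
    obtain rfl : h = 2 := by omega
    rcases (show L = 2 ∨ L = 1 by omega) with rfl | rfl
    · obtain ⟨x, hxt, hxe, hx2, -⟩ := tor_two_one (p := p) hq ε true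
      refine ⟨p * x, hxt, S.rel _ (fun z hz => ?_) (hone (by omega) _) (hone (by omega) _)
        fun hb => by omega⟩
      rw [only_one S.pos hx (by simp only; omega), List.mem_singleton] at hz
      subst hz
      rw [mul_comm p x]
      exact mul_dvd_mul hx2 (clog_small hp3 (by norm_num))
    by_cases hr : wsum S.T = 2
    · have hT := hsingle hx hr.symm
      by_cases hb : S.b = 0
      · rcases shape_half h2 hQ hg S hT hb with e | e <;>
          refine ⟨_, ?_, pow_dvd_eq_one e (mul_dvd_mul_right (clog_mono_dvd (show S.a ≤ 5 by omega)) _)⟩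
        · simp [targets, hqdef]
        · simp [targets, hqdef]
      · obtain ⟨x, hxt, hxe, hx2, -⟩ := tor_two_one (p := p) hq ε true
        refine ⟨p * x, hxt, S.rel _ (fun z hz => ?_) (hsmall (by omega) _) (hsmall (by omega) _)
          fun _ => hxe.mul_left p⟩
        rw [hT, List.mem_singleton] at hz
        subst hz
        simpa using hx2.mul_left p
    by_cases hy : ∃ y ∈ S.T, y.1 = 1 ∧ y.1 * y.2.2 + 2 = wsum S.T
    · obtain ⟨⟨yh, ye, yL⟩, hy, hy1, hyw⟩ := hy
      simp only at hy1 hyw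
      subst hy1
      obtain ⟨x, hxt, hxe, hx2, hx1⟩ := tor_two_one (p := p) hq ε ye
      refine ⟨p * x, hxt, S.rel _ (fun z hz => ?_) (hsmall (by omega) _) (hsmall (by omega) _)
        fun _ => hxe.mul_left p⟩
      rcases only_two S.pos hx hy (by simp) (by simp only; omega) hz with rfl | rfl
      · simpa using hx2.mul_left p
      · rw [mul_comm p x]
        exact mul_dvd_mul hx1 (clog_small hp3 (show yL ≤ 3 by omega))
    push Not at hy
    have hz : ∀ z ∈ S.T, z ≠ (2, ε, 1) → z.2.2 = 1 ∧ z.1 ≤ 2 ∧ wsum S.T = 4 := fun z hz hne => by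
      have h1 := pair_le S.pos hx hz hne
      obtain ⟨hz1, hz2⟩ := S.pos _ hz
      have hlt := h3 _ hz
      have h5 := hy z hz
      simp only at h1
      rcases (show z.1 = 1 ∨ z.1 = 2 by omega) with e | e <;> rw [e] at h1 h5 <;> omega
    by_cases hr4 : wsum S.T = 4
    · refine ⟨(q ^ 4 - 1) / 2, by simp [targets, hqdef], S.rel _ (fun z hzm => ?_) (hone (by omega) _)
        (hone (by omega) _) fun hb => by omega⟩
      have h1 : z.2.2 = 1 ∧ z.1 ≤ 2 := by
        by_cases hne : z = (2, ε, 1)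
        · subst hne; exact ⟨rfl, le_rfl⟩
        · exact ⟨(hz z hzm hne).1, (hz z hzm hne).2.1⟩
      rw [h1.1, Nat.clog_one_right, pow_zero, mul_one]
      exact tor_two_dvd hq (S.pos _ hzm).1 h1.2 _
    · obtain ⟨x, hxt, hxe, hx2, -⟩ := tor_two_one (p := p) hq ε true
      refine ⟨p * x, hxt, S.rel _ (fun z hzm => ?_) (hsmall (by omega) _) (hsmall (by omega) _)
        fun _ => hxe.mul_left p⟩
      have : z = (2, ε, 1) := by
        by_contra hne
        exact hr4 (hz z hzm hne).2.2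
      subst this
      simpa using hx2.mul_left p
  push Not at hh2
  have hone' : ∀ z ∈ S.T, z.1 = 1 ∧ z.2.2 ≤ wsum S.T := fun z hz => by
    have := hh2 z hz; have := (S.pos z hz).1; have h' := le_wsum S.pos hz
    have e : z.1 = 1 := by omega
    rw [e, one_mul] at h'
    exact ⟨e, h'⟩
  by_cases hr0 : S.T = []
  · have hw0 : wsum S.T = 0 := by rw [hr0]; rfl
    by_cases hb : S.b = 0
    · exact ⟨p ^ Nat.clog p 9, by simp [targets], S.rel _ (by simp [hr0]) (clog_mono_dvd (by omega))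
        (hone (by omega) _) (by omega)⟩
    · rcases even_half (p := p) hq (Nat.clog p 7) with he | he <;>
        refine ⟨_, ?_, S.rel _ (by simp [hr0]) ((clog_mono_dvd (by omega)).mul_right _)
          ((clog_mono_dvd (by omega)).mul_right _) (fun _ => he)⟩
      · simp [targets, hqdef]
      · simp [targets, hqdef]
  obtain ⟨⟨h, ε, L⟩, hx⟩ := List.exists_mem_of_ne_nil _ hr0
  obtain ⟨hx1, hx2⟩ := hone' _ hx
  simp only at hx1 hx2
  subst hx1
  have hL := (S.pos _ hx).2
  simp only at hL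
  by_cases hs : S.b = 0 ∧ wsum S.T = 1
  · obtain rfl : L = 1 := by omega
    rcases shape_half h2 hQ hg S (hsingle hx hs.2.symm) hs.1 with e | e <;> rw [pow_one] at e <;>
      refine ⟨_, ?_, pow_dvd_eq_one e (mul_dvd_mul_right (clog_mono_dvd (show S.a ≤ 7 by omega)) _)⟩
    · simp [targets, hqdef]
    · simp [targets, hqdef]
  refine ⟨p ^ Nat.clog p 5 * ((q ^ 2 - 1) / 2), by simp [targets, hqdef], S.rel _ (fun z hz => ?_)
    ((clog_mono_dvd (by omega)).mul_right _) ((clog_mono_dvd (by omega)).mul_right _)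
    fun _ => (even_half_sq hq).mul_left _⟩
  obtain ⟨hz1, hz2⟩ := hone' z hz
  rw [hz1, mul_comm (p ^ Nat.clog p 5)]
  exact mul_dvd_mul (tor_one_dvd hq _) (clog_mono_dvd (by omega))

end CfsgLib.SpecNine
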