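import Cfsg.Agent.SpecNine.Tori
import Cfsg.Agent.SpecNine.Upper
import Cfsg.Agent.Quad.OmegaSum

/-!
Every one of the fourteen numbers divides an order in `V ⋊ Ω⁻₈(q)`.
-/

set_option autoImplicit false
set_option linter.style.haveILetI false
set_option linter.unusedSectionVars false

namespace CfsgLib.SpecNine

open Module QuadraticMap CfsgLib.Forms CfsgLib.Quad CfsgLib.Geo.OCounts
open CfsgLib.SpecSpEight (toEnd toEnd_apply toEnd_injective gsum oProd oProd_injective gsum_oProd AffHas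
  torN torN_coprime)

universe u v

variable {F : Type u} [Field F] [Fintype F] {p : ℕ} [hp : Fact p.Prime] [CharP F p]

/-- A semisimple part which lies in `Omega` whatever is added to it. -/
def PT (F : Type u) [Field F] [Fintype F] (p r : ℕ) (ε : ℤ) (o : ℕ) : Prop :=
  ∃ (A : Type u) (_ : AddCommGroup A) (_ : Module F A) (_ : FiniteDimensional F A) (R : QuadraticForm F A),
    (polarBilin R).Nondegenerate ∧ finrank F A = 2 * r ∧ EType (⇑R) r ε ∧ o.Coprime p ∧
    ∃ s : oGroup R, o ∣ orderOf s ∧ ∀ (W : Type u) [AddCommGroup W] [Module F W] [FiniteDimensional F W]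
      (S : QuadraticForm F W), (polarBilin S).Nondegenerate → 2 ≤ finrank F (A × W) →
        oProd R S (s, 1) ∈ commutator (oGroup (R.prod S))

theorem toEnd_oProd {A W : Type*} [AddCommGroup A] [Module F A] [AddCommGroup W] [Module F W]
    (R : QuadraticForm F A) (S : QuadraticForm F W) (s : oGroup R) (w : oGroup S) :
    toEnd (R.prod S) (oProd R S (s, w)) = (toEnd R s).prodMap (toEnd S w) := rfl

theorem polar_prod {A W : Type*} [AddCommGroup A] [Module F A] [AddCommGroup W] [Module F W]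
    (R : QuadraticForm F A) (S : QuadraticForm F W) (x y : A × W) :
    polar (R.prod S) x y = polar R x.1 y.1 + polar S x.2 y.2 := by
  simp only [polar, QuadraticMap.prod_apply, Prod.fst_add, Prod.snd_add]; ring

theorem pt_zero : PT F p 0 1 1 := by
  refine ⟨Fin 0 ⊕ Fin 0 → F, inferInstance, inferInstance, inferInstance, plusQ 0, plusQ_nondeg 0, by simp,
    etype_plus 0, Nat.coprime_one_left p, 1, one_dvd _, fun W _ _ _ S hS _ => ?_⟩
  rw [show ((1 : oGroup (plusQ (F := F) 0)), (1 : oGroup S)) = 1 from rfl, map_one]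
  exact one_mem _

theorem pt_sq (h2 : (2 : F) ≠ 0) {h : ℕ} {ε : ℤ} {N : ℕ} (hT : Tor F h ε N) (hN : Even N) (hc : N.Coprime p) :
    PT F p h ε (N / 2) := by
  obtain ⟨A, _, _, _, R, hR, hA, hE, t, hto, -, -⟩ := hT
  obtain ⟨M, rfl⟩ := hN
  refine ⟨A, inferInstance, inferInstance, inferInstance, R, hR, hA, hE, hc.coprime_dvd_left ⟨2, by omega⟩, t * t,
    dvd_of_eq ?_, fun W _ _ _ S hS hW => ?_⟩
  · rw [← pow_two, orderOf_pow' t two_ne_zero, hto, ← two_mul, Nat.gcd_mul_right_left]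
  · rw [show ((t * t : oGroup R), (1 : oGroup S)) = (t, 1) * (t, 1) from Prod.ext rfl (one_mul 1).symm, map_mul]
    exact CfsgLib.Quad.sq_mem_commutator (prod_nondeg' hR hS)
      (Or.inl ⟨2, h2, fun e => one_ne_zero (by linear_combination e : (1 : F) = 0)⟩) _

theorem pt_pair (h2 : (2 : F) ≠ 0) {h h' : ℕ} (hh : 1 ≤ h) (hh' : 1 ≤ h') {ε ε' : ℤ} {N N' : ℕ}
    (hN : (N : ℤ) = (Fintype.card F : ℤ) ^ h - ε) (hN' : (N' : ℤ) = (Fintype.card F : ℤ) ^ h' - ε')
    (hNe : Even N) (hN'e : Even N') (hNc : N.Coprime p) (hN'c : N'.Coprime p)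
    (hT : Tor F h ε N) (hT' : Tor F h' ε' N') {o : ℕ} (ho : o ∣ Nat.lcm N N') :
    PT F p (h + h') (ε * ε') o := by
  obtain ⟨A, _, _, _, R, hR, hA, hE, t, hto, htd, hfree⟩ := hT
  obtain ⟨A', _, _, _, R', hR', hA', hE', t', hto', htd', hfree'⟩ := hT'
  haveI : Finite A := Module.finite_of_finite F
  haveI : Finite A' := Module.finite_of_finite F
  have hN0 : 0 < N := Nat.pos_of_ne_zero fun e => by
    rw [e, Nat.coprime_zero_left] at hNc; exact hp.out.ne_one hNc
  have hN'0 : 0 < N' := Nat.pos_of_ne_zero fun e => by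
    rw [e, Nat.coprime_zero_left] at hN'c; exact hp.out.ne_one hN'c
  refine ⟨A × A', inferInstance, inferInstance, inferInstance, R.prod R', prod_nondeg' hR hR', ?_,
    etype_prod hE (card_space hA) hE' (card_space hA'),
    (Nat.Coprime.mul_left hNc hN'c).coprime_dvd_left (ho.trans (Nat.lcm_dvd (dvd_mul_right _ _) (dvd_mul_left _ _))),
    oProd R R' (t, t'), ?_, fun W _ _ _ S hS hW => ?_⟩
  · rw [Module.finrank_prod, hA, hA']; ring
  · rw [orderOf_injective _ (oProd_injective R R'), Prod.orderOf_mk, hto, hto']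
    exact ho
  set Q := (R.prod R').prod S with hQdef
  have hQ : (polarBilin Q).Nondegenerate := prod_nondeg' (prod_nondeg' hR hR') hS
  obtain ⟨θ, hθ⟩ := exists_spinor hQ h2 hW
  set g₁ := oProd (R.prod R') S (oProd R R' (t, 1), 1)
  set g₂ := oProd (R.prod R') S (oProd R R' (1, t'), 1)
  have hd1 : LinearMap.det (toEnd Q g₁) = 1 := by
    show LinearMap.det (((toEnd R t).prodMap (toEnd R' 1)).prodMap (toEnd S 1)) = 1
    rw [LinearMap.det_prodMap, LinearMap.det_prodMap, htd, map_one, map_one]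
    simp
  have hd2 : LinearMap.det (toEnd Q g₂) = 1 := by
    show LinearMap.det (((toEnd R 1).prodMap (toEnd R' t')).prodMap (toEnd S 1)) = 1
    rw [LinearMap.det_prodMap, LinearMap.det_prodMap, htd', map_one, map_one]
    simp
  have e1 : θ g₁ = -1 := theta_tor h2 hQ hθ hh hE hN hNe hN0 (hto ▸ pow_orderOf_eq_one t) hfree hW
    (ι := (LinearMap.inl F (A × A') W).comp (LinearMap.inl F A A'))
    (π := (LinearMap.fst F A A').comp (LinearMap.fst F (A × A') W)) (fun a => rfl)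
    (fun a => by simp [hQdef, QuadraticMap.prod_apply])
    (fun a x hx => by
      have hx' : x.1.1 = 0 := hx
      simp [hQdef, polar_prod, hx', polar_zero_left, polar_zero_right])
    (fun a => rfl) (fun x hx => by
      have hx' : x.1.1 = 0 := hx
      exact Prod.ext (Prod.ext (by show t.1 x.1.1 = x.1.1; rw [hx', map_zero]) rfl) rfl) hd1
  have e2 : θ g₂ = -1 := theta_tor h2 hQ hθ hh' hE' hN' hN'e hN'0 (hto' ▸ pow_orderOf_eq_one t') hfree' hW
    (ι := (LinearMap.inl F (A × A') W).comp (LinearMap.inr F A A'))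
    (π := (LinearMap.snd F A A').comp (LinearMap.fst F (A × A') W)) (fun a => rfl)
    (fun a => by simp [hQdef, QuadraticMap.prod_apply])
    (fun a x hx => by
      have hx' : x.1.2 = 0 := hx
      simp [hQdef, polar_prod, hx', polar_zero_left, polar_zero_right])
    (fun a => rfl) (fun x hx => by
      have hx' : x.1.2 = 0 := hx
      exact Prod.ext (Prod.ext rfl (by show t'.1 x.1.2 = x.1.2; rw [hx', map_zero])) rfl) hd2
  have hprod : oProd (R.prod R') S (oProd R R' (t, t'), 1) = g₁ * g₂ := by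
    rw [← map_mul]
    congr 1
  rw [hprod, mem_commutator_iff hQ h2 hW hθ]
  refine ⟨Units.ext ?_, by rw [map_mul, e1, e2]; decide⟩
  rw [map_mul, Units.val_mul, detO_val, detO_val, Units.val_one]
  show LinearMap.det (toEnd Q g₁) * LinearMap.det (toEnd Q g₂) = 1
  rw [hd1, hd2, mul_one]

/-- The affine element. -/
theorem aff_of_pt (h2 : (2 : F) ≠ 0) {r k : ℕ} {ε : ℤ} {o : ℕ} (hε : ε = 1 ∨ ε = -1) (hrk : r + k = 4)
    (hk : k = 0 → ε = -1) (hP : PT F p r ε o) {V : Type v} [AddCommGroup V] [Module F V] [FiniteDimensional F V]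
    {Q : QuadraticForm F V} (hQ : (polarBilin Q).Nondegenerate) (hV : finrank F V = 8)
    (hE : EType (⇑Q) 4 (-1)) : AffHas Q (p ^ Nat.clog p (2 * k + 1) * o) := by
  obtain ⟨A, _, _, _, R, hR, hA, hRE, hco, s, hos, hs⟩ := hP
  obtain ⟨W, _, _, _, S, hS, hW, hSE, u, w, ⟨b, hub⟩, hu⟩ :=
    exists_uform (F := F) (p := p) h2 k (-ε) (by rcases hε with rfl | rfl <;> norm_num) fun h0 => by
      rw [hk h0]; norm_num
  haveI : Finite A := Module.finite_of_finite F
  haveI : Finite W := Module.finite_of_finite F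
  haveI := finite_oGroup (R.prod S)
  haveI := finite_oGroup S
  have hdim : finrank F (A × W) = 2 * 4 := by rw [Module.finrank_prod, hA, hW]; omega
  have hPE : EType (⇑(R.prod S)) 4 (-1) := by
    have h := etype_prod hRE (card_space hA) hSE (card_space hW)
    rw [hrk] at h
    rcases hε with rfl | rfl <;> simpa using h
  obtain ⟨φ, hφ⟩ := exists_equiv (prod_nondeg' hR hS) hQ hdim (by omega) hPE hE
  have hodd : Odd (p ^ b) := (hp.out.odd_of_ne_two fun e => h2 (by subst e; exact_mod_cast CharP.cast_eq_zero F 2)).pow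
  have hgu : oProd R S (1, u) ∈ commutator (oGroup (R.prod S)) := by
    refine CfsgLib.PrimeGraphBC.odd_mem_commutator h2 (prod_nondeg' hR hS) (by omega) ?_
    exact hodd.of_dvd_nat (orderOf_dvd_of_pow_eq_one (by rw [← map_pow, Prod.pow_mk, one_pow, hub]; exact map_one _))
  have hg : oProd R S (s, u) ∈ commutator (oGroup (R.prod S)) := by
    rw [show ((s, u) : oGroup R × oGroup S) = (s, 1) * (1, u) by simp, map_mul]
    exact mul_mem (hs W S hS (by omega)) hgu
  refine CfsgLib.SpecSpEight.AffHas.congr φ hφ ⟨oProd R S (s, u), hg, (0, w), fun j hj hsum => ?_⟩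
  rw [← map_pow, ← map_one (oProd R S)] at hj
  obtain ⟨h1, h3⟩ := Prod.ext_iff.1 (oProd_injective R S hj)
  rw [gsum_oProd] at hsum
  exact Nat.Coprime.mul_dvd_of_dvd_of_dvd (hco.symm.pow_left _) (hu j h3 (Prod.ext_iff.1 hsum).2)
    (hos.trans (orderOf_dvd_of_pow_eq_one h1))

section realise

theorem two_lcm {A B : ℕ} (h : Nat.gcd A B ∣ 2) : A * B ∣ 2 * Nat.lcm A B := by
  rw [← Nat.gcd_mul_lcm A B]; exact mul_dvd_mul_right h _

theorem half_dvd_lcm {A B : ℕ} (hB : Even B) (h : Nat.gcd A B ∣ 2) : A * (B / 2) ∣ Nat.lcm A B := by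
  obtain ⟨b, rfl⟩ := hB
  rw [show (b + b) / 2 = b by omega]
  have := two_lcm h
  exact Nat.dvd_of_mul_dvd_mul_left two_pos (by rwa [show 2 * (A * b) = A * (b + b) by ring])

theorem gcd_dvd_two {A B : ℕ} (h : ∀ d : ℕ, (d : ℤ) ∣ A → (d : ℤ) ∣ B → (d : ℤ) ∣ 2) : Nat.gcd A B ∣ 2 := by
  exact_mod_cast h _ (Int.natCast_dvd_natCast.2 (Nat.gcd_dvd_left A B))
    (Int.natCast_dvd_natCast.2 (Nat.gcd_dvd_right A B))

/-- The fourteen numbers are realised. -/
theorem realise (h2 : (2 : F) ≠ 0) {V : Type v} [AddCommGroup V] [Module F V] [FiniteDimensional F V]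
    {Q : QuadraticForm F V} (hQ : (polarBilin Q).Nondegenerate) (hV : finrank F V = 8)
    (hE : EType (⇑Q) 4 (-1)) : ∀ T ∈ targets (Fintype.card F) p, AffHas Q T := by
  set q := Fintype.card F with hqdef
  have hq : Odd q := Nat.odd_iff.2 (by simpa [Nat.card_eq_fintype_card, hqdef] using odd_card_of_two_ne (F := F) h2)
  have hp3 : 3 ≤ p := by
    rcases hp.out.eq_two_or_odd with h | h
    · subst h; exact absurd (CharP.cast_eq_zero F 2) (by exact_mod_cast h2)
    · have := hp.out.two_le; omega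
  have e3 : p ^ Nat.clog p 3 = p := by
    have h1 : 0 < Nat.clog p 3 := Nat.clog_pos hp.out.one_lt (by norm_num)
    have h4 : Nat.clog p 3 ≤ 1 := Nat.clog_le_of_le_pow (by rw [pow_one]; omega)
    rw [show Nat.clog p 3 = 1 by omega, pow_one]
  have Tm : ∀ h, 1 ≤ h → Tor F h (-1) (q ^ h + 1) := fun h hh => tor_minus h2 h hh
  have Tp : ∀ h, 1 ≤ h → Tor F h 1 (q ^ h - 1) := fun h hh => tor_plus h2 h hh
  have cm : ∀ h, 1 ≤ h → (q ^ h + 1).Coprime p := fun h hh => by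
    simpa [torN] using torN_coprime (F := F) (p := p) hh true
  have cp : ∀ h, 1 ≤ h → (q ^ h - 1).Coprime p := fun h hh => by
    simpa [torN] using torN_coprime (F := F) (p := p) hh false
  have em : ∀ h : ℕ, Even (q ^ h + 1) := fun h => hq.pow.add_one
  have ep : ∀ h : ℕ, Even (q ^ h - 1) := fun h => Nat.Odd.sub_odd hq.pow odd_one
  have zm : ∀ h : ℕ, ((q ^ h + 1 : ℕ) : ℤ) = (q : ℤ) ^ h - -1 := fun h => by push_cast; ring
  have zp : ∀ h : ℕ, ((q ^ h - 1 : ℕ) : ℤ) = (q : ℤ) ^ h - 1 := fun h => by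
    rw [Nat.cast_sub (Nat.one_le_pow _ _ hq.pos)]; push_cast; ring
  have sq := fun {h : ℕ} {ε : ℤ} {N : ℕ} (hT : Tor F h ε N) hN hc => pt_sq (p := p) h2 hT hN hc
  have hpow : ∀ x : ℕ, x = p ^ Nat.clog p (2 * 0 + 1) * x := fun x => by simp
  have h3' : ∀ x : ℕ, p * x = p ^ Nat.clog p (2 * 1 + 1) * x := fun x => by rw [show 2 * 1 + 1 = 3 from rfl, e3]
  have gm : ∀ d : ℕ, (d : ℤ) ∣ ((q ^ 1 - 1 : ℕ) : ℤ) → (d : ℤ) ∣ (q : ℤ) - 1 := fun d h => by
    rwa [zp, pow_one] at h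
  have gp : ∀ d : ℕ, (d : ℤ) ∣ ((q ^ 1 + 1 : ℕ) : ℤ) → (d : ℤ) ∣ (q : ℤ) + 1 := fun d h => by
    rwa [zm, pow_one, sub_neg_eq_add] at h
  intro T hT
  simp only [targets, List.mem_cons, List.not_mem_nil, or_false] at hT
  rcases hT with rfl | rfl | rfl | rfl | rfl | rfl | rfl | rfl | rfl | rfl | rfl | rfl | rfl | rfl
  · rw [hpow ((q ^ 4 + 1) / 2)]
    exact aff_of_pt h2 (Or.inr rfl) rfl (fun _ => rfl) (sq (Tm 4 (by norm_num)) (em 4) (cm 4 (by norm_num))) hQ hV hE
  · rw [hpow ((q ^ 4 - 1) / 2)]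
    refine aff_of_pt (r := 4) h2 (Or.inr rfl) rfl (fun _ => rfl) ?_ hQ hV hE
    have h := pt_pair (p := p) h2 (h := 2) (h' := 2) (by norm_num) (by norm_num) (zm 2) (zp 2) (em 2) (ep 2)
      (cm 2 (by norm_num)) (cp 2 (by norm_num)) (Tm 2 (by norm_num)) (Tp 2 (by norm_num))
      (o := (q ^ 4 - 1) / 2) ?_
    · simpa using h
    · rw [← half_sq_dvd_four hq]
      refine half_dvd_lcm (ep 2) (gcd_dvd_two fun d hA hB => ?_)
      rw [zm] at hA; rw [zp] at hB
      simpa using dvd_sub hA hB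
  · rw [hpow ((q ^ 3 + 1) * ((q - 1) / 2))]
    refine aff_of_pt (r := 4) h2 (Or.inr rfl) rfl (fun _ => rfl) ?_ hQ hV hE
    have h := pt_pair (p := p) h2 (h := 3) (h' := 1) (by norm_num) le_rfl (zm 3) (zp 1) (em 3) (ep 1)
      (cm 3 (by norm_num)) (cp 1 le_rfl) (Tm 3 (by norm_num)) (Tp 1 le_rfl)
      (o := (q ^ 3 + 1) * ((q ^ 1 - 1) / 2)) ?_
    · simpa using h
    · refine half_dvd_lcm (ep 1) (gcd_dvd_two fun d hA hB => ?_)
      rw [zm] at hA
      have hd := gm d hB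
      have h5 := dvd_sub hA (hd.mul_right ((q : ℤ) ^ 2 + q + 1))
      rwa [show (q : ℤ) ^ 3 - -1 - ((q : ℤ) - 1) * ((q : ℤ) ^ 2 + q + 1) = 2 by ring] at h5
  · rw [hpow ((q ^ 3 - 1) * ((q + 1) / 2))]
    refine aff_of_pt (r := 4) h2 (Or.inr rfl) rfl (fun _ => rfl) ?_ hQ hV hE
    have h := pt_pair (p := p) h2 (h := 3) (h' := 1) (by norm_num) le_rfl (zp 3) (zm 1) (ep 3) (em 1)
      (cp 3 (by norm_num)) (cm 1 le_rfl) (Tp 3 (by norm_num)) (Tm 1 le_rfl)
      (o := (q ^ 3 - 1) * ((q ^ 1 + 1) / 2)) ?_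
    · simpa using h
    · refine half_dvd_lcm (em 1) (gcd_dvd_two fun d hA hB => ?_)
      rw [zp] at hA
      have hd := gp d hB
      have h5 := dvd_sub (hd.mul_right ((q : ℤ) ^ 2 - q + 1)) hA
      rwa [show ((q : ℤ) + 1) * ((q : ℤ) ^ 2 - q + 1) - ((q : ℤ) ^ 3 - 1) = 2 by ring] at h5
  · rw [h3']
    exact aff_of_pt h2 (Or.inr rfl) rfl (fun _ => rfl) (sq (Tm 3 (by norm_num)) (em 3) (cm 3 (by norm_num))) hQ hV hE
  · rw [h3']
    exact aff_of_pt h2 (Or.inl rfl) rfl (fun h => by omega) (sq (Tp 3 (by norm_num)) (ep 3) (cp 3 (by norm_num))) hQ hV hE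
  · rw [h3']
    refine aff_of_pt (r := 3) (ε := -1) h2 (Or.inr rfl) rfl (fun _ => rfl) ?_ hQ hV hE
    have h := pt_pair (p := p) h2 (h := 2) (h' := 1) (by norm_num) le_rfl (zm 2) (zp 1) (em 2) (ep 1)
      (cm 2 (by norm_num)) (cp 1 le_rfl) (Tm 2 (by norm_num)) (Tp 1 le_rfl)
      (o := (q ^ 2 + 1) * ((q ^ 1 - 1) / 2)) ?_
    · simpa using h
    · refine half_dvd_lcm (ep 1) (gcd_dvd_two fun d hA hB => ?_)
      rw [zm] at hA
      have hd := gm d hB
      have h5 := dvd_sub hA (hd.mul_right ((q : ℤ) + 1))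
      rwa [show (q : ℤ) ^ 2 - -1 - ((q : ℤ) - 1) * ((q : ℤ) + 1) = 2 by ring] at h5
  · rw [h3']
    refine aff_of_pt (r := 3) (ε := 1) h2 (Or.inl rfl) rfl (fun h => by omega) ?_ hQ hV hE
    have h := pt_pair (p := p) h2 (h := 2) (h' := 1) (by norm_num) le_rfl (zm 2) (zm 1) (em 2) (em 1)
      (cm 2 (by norm_num)) (cm 1 le_rfl) (Tm 2 (by norm_num)) (Tm 1 le_rfl)
      (o := (q ^ 2 + 1) * ((q ^ 1 + 1) / 2)) ?_
    · simpa using h
    · refine half_dvd_lcm (em 1) (gcd_dvd_two fun d hA hB => ?_)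
      rw [zm] at hA
      have hd := gp d hB
      have h5 := dvd_sub hA (hd.mul_right ((q : ℤ) - 1))
      rwa [show (q : ℤ) ^ 2 - -1 - ((q : ℤ) + 1) * ((q : ℤ) - 1) = 2 by ring] at h5
  · rw [h3']
    refine aff_of_pt (r := 3) (ε := 1) h2 (Or.inl rfl) rfl (fun h => by omega) ?_ hQ hV hE
    have h := pt_pair (p := p) h2 (h := 2) (h' := 1) (by norm_num) le_rfl (zp 2) (zp 1) (ep 2) (ep 1)
      (cp 2 (by norm_num)) (cp 1 le_rfl) (Tp 2 (by norm_num)) (Tp 1 le_rfl)
      (o := q ^ 2 - 1) (Nat.dvd_lcm_left _ _)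
    simpa using h
  · exact aff_of_pt (k := 2) h2 (Or.inr rfl) rfl (fun _ => rfl) (sq (Tm 2 (by norm_num)) (em 2) (cm 2 (by norm_num))) hQ hV hE
  · exact aff_of_pt (k := 2) h2 (Or.inl rfl) rfl (fun h => by omega) (sq (Tp 2 (by norm_num)) (ep 2) (cp 2 (by norm_num))) hQ hV hE
  · have h := sq (Tm 1 le_rfl) (em 1) (cm 1 le_rfl)
    rw [pow_one] at h
    exact aff_of_pt (k := 3) h2 (Or.inr rfl) rfl (fun _ => rfl) h hQ hV hE
  · have h := sq (Tp 1 le_rfl) (ep 1) (cp 1 le_rfl)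
    rw [pow_one] at h
    exact aff_of_pt (k := 3) h2 (Or.inl rfl) rfl (fun h => by omega) h hQ hV hE
  · have h := aff_of_pt (k := 4) h2 (Or.inl rfl) rfl (fun h => by omega) (pt_zero (F := F) (p := p)) hQ hV hE
    simpa using h

end realise

end CfsgLib.SpecNine
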