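import Cfsg.Agent.SpecNine.Embed
import Cfsg.Agent.SpecNine.Affine
import Cfsg.Agent.Spectrum.Basic

/-!
`PΩ₉(q)` and `V ⋊ Ω⁻₈(q)` have the same element orders, `q` odd.
-/

set_option autoImplicit false
set_option linter.style.haveILetI false
set_option linter.unusedSectionVars false

namespace CfsgLib.SpecNine

open Module QuadraticMap CfsgLib.Forms CfsgLib.Quad CfsgLib.Geo.OCounts
open CfsgLib.SpecSpEight (toEnd gsum)

universe u v w

variable {F : Type u} [Field F] [Fintype F]

section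

variable {V : Type v} [AddCommGroup V] [Module F V] {G : Type w} [Group G] {Q : QuadraticForm F V}
  (φ : G →* MulAut (Multiplicative V)) (f : G →* oGroup Q)
  (hφ : ∀ g x, φ g (Multiplicative.ofAdd x) = Multiplicative.ofAdd ((f g).1 x))

include hφ

theorem semi_pow_gsum (x : V) (g : G) :
    ∀ j : ℕ, (⟨Multiplicative.ofAdd x, g⟩ : Multiplicative V ⋊[φ] G) ^ j =
      ⟨Multiplicative.ofAdd (gsum (toEnd Q (f g)) j x), g ^ j⟩
  | 0 => by
    rw [pow_zero, pow_zero]
    refine SemidirectProduct.ext ?_ rfl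
    simp [gsum]
  | j + 1 => by
    rw [pow_succ, semi_pow_gsum x g j, pow_succ g]
    refine SemidirectProduct.ext ?_ rfl
    simp only [SemidirectProduct.mul_left, hφ, ← ofAdd_add]
    refine congrArg Multiplicative.ofAdd ?_
    simp only [gsum, Finset.sum_range_succ, LinearMap.add_apply, ← map_pow]
    rfl

/-- The spectrum of the extension. -/
theorem spectrum_semi [FiniteDimensional F V] (h2 : (2 : F) ≠ 0) (hQ : (polarBilin Q).Nondegenerate)
    (hV : finrank F V = 8) (hE : EType (⇑Q) 4 (-1)) (hf : Function.Injective f)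
    (hrange : f.range = commutator (oGroup Q)) :
    Set.range (orderOf : Cfsg.POmega F (Cfsg.quadFormOdd 4 F) → ℕ) =
      Set.range (orderOf : Multiplicative V ⋊[φ] G → ℕ) := by
  classical
  obtain ⟨p, hp'⟩ := CharP.exists F
  haveI : Fact p.Prime := ⟨CharP.char_is_prime F p⟩
  haveI : Finite V := Module.finite_of_finite F
  haveI := finite_oGroup Q
  haveI := finite_oGroup (oddQ (F := F) 4)
  haveI : Finite G := Finite.of_injective f hf
  haveI : Finite (Multiplicative V ⋊[φ] G) := Finite.of_equiv _ SemidirectProduct.equivProd.symm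
  ext n
  rw [CfsgLib.PrimeGraphBC.mem_range_pomega h2 (by norm_num)]
  constructor
  · rintro ⟨y, hy, rfl⟩
    obtain ⟨t, ht, hyt⟩ := upper (p := p) h2 (oddQ_nondeg h2 4) (by simp) hy
    obtain ⟨g, hg, v, hgv⟩ := realise (p := p) h2 hQ hV hE t ht
    rw [← hrange] at hg
    obtain ⟨g, rfl⟩ := hg
    let x : Multiplicative V ⋊[φ] G := ⟨Multiplicative.ofAdd v, g⟩
    have h := pow_orderOf_eq_one x
    rw [semi_pow_gsum φ f hφ] at h
    have h1 : g ^ orderOf x = 1 := congrArg (fun z : Multiplicative V ⋊[φ] G => z.right) h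
    have h3 : gsum (toEnd Q (f g)) (orderOf x) v = 0 :=
      congrArg (fun z : Multiplicative V ⋊[φ] G => Multiplicative.toAdd z.left) h
    exact CfsgLib.Spectrum.exists_orderOf_eq_of_dvd (orderOf_pos x)
      ((orderOf_dvd_of_pow_eq_one hyt).trans (hgv _ (by rw [← map_pow, h1, map_one]) h3))
  · rintro ⟨⟨x, g⟩, rfl⟩
    have hg : f g ∈ commutator (oGroup Q) := hrange ▸ ⟨g, rfl⟩
    obtain ⟨y, hy, h1, h3⟩ := embed h2 hQ hV hg (Multiplicative.toAdd x)
    have hd : orderOf (⟨x, g⟩ : Multiplicative V ⋊[φ] G) ∣ orderOf (⟨y, hy⟩ : commutator (oGroup (oddQ (F := F) 4))) := by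
      rw [Subgroup.orderOf_mk]
      refine orderOf_dvd_of_pow_eq_one ?_
      rw [show x = Multiplicative.ofAdd (Multiplicative.toAdd x) from rfl, semi_pow_gsum φ f hφ, h3]
      exact SemidirectProduct.ext rfl (hf (by rw [map_pow, h1]; exact (map_one f).symm))
    obtain ⟨z, hz⟩ := CfsgLib.Spectrum.exists_orderOf_eq_of_dvd (orderOf_pos _) hd
    exact ⟨z.1, z.2, by rw [← hz, Subgroup.orderOf_coe]⟩

end

end CfsgLib.SpecNine
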