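import Cfsg.Agent.SpecSpEight.Upper
import Cfsg.Agent.SpecSpEight.OrthBound
import Cfsg.Agent.PrimeGraphBC.Tools

/-!
Averaging idempotents, orthogonal splittings, extensions from a summand, and Jordan blocks of unipotent
isometries in odd characteristic.
-/

set_option autoImplicit false
set_option linter.style.haveILetI false
set_option linter.unusedSectionVars false

namespace CfsgLib.SpecNine

open Module CfsgLib.Quad CfsgLib.PrimeGraphBC
open LinearMap (BilinForm)
open CfsgLib.SpecSpEight (gsum)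

universe u v

variable {F : Type u} [Field F] {V : Type v} [AddCommGroup V] [Module F V]

/-- The average of the powers of `s`. -/
def avgE (s : Module.End F V) (o : ℕ) : Module.End F V := (o : F)⁻¹ • ∑ i ∈ Finset.range o, s ^ i

theorem avgE_fix {s : Module.End F V} {o : ℕ} (ho : (o : F) ≠ 0) {v : V} (hv : s v = v) : avgE s o v = v := by
  have hp : ∀ i, (s ^ i) v = v := fun i => by
    induction i with
    | zero => rfl
    | succ i ih => rw [pow_succ, Module.End.mul_apply, hv, ih]
  rw [avgE, LinearMap.smul_apply, LinearMap.sum_apply, Finset.sum_congr rfl fun i _ => hp i, Finset.sum_const,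
    Finset.card_range, ← Nat.cast_smul_eq_nsmul F, smul_smul, inv_mul_cancel₀ ho, one_smul]

theorem mul_avgE {s : Module.End F V} {o : ℕ} (hs : s ^ o = 1) : s * avgE s o = avgE s o := by
  have h := mul_geom_sum s o
  rw [hs, sub_self, sub_mul, one_mul, sub_eq_zero] at h
  rw [avgE, mul_smul_comm, h]

theorem apply_avgE {s : Module.End F V} {o : ℕ} (hs : s ^ o = 1) (v : V) : s (avgE s o v) = avgE s o v :=
  LinearMap.congr_fun (mul_avgE hs) v

theorem avgE_idem {s : Module.End F V} {o : ℕ} (hs : s ^ o = 1) (ho : (o : F) ≠ 0) :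
    avgE s o * avgE s o = avgE s o :=
  LinearMap.ext fun v => avgE_fix ho (apply_avgE hs v)

theorem commute_avgE {s h : Module.End F V} (hc : Commute h s) (o : ℕ) : Commute h (avgE s o) :=
  (Commute.sum_right _ _ _ fun i _ => hc.pow_right i).smul_right _

theorem range_avgE {s : Module.End F V} {o : ℕ} (hs : s ^ o = 1) (ho : (o : F) ≠ 0) :
    LinearMap.range (avgE s o) = LinearMap.ker (s - 1) := by
  ext v
  rw [LinearMap.mem_ker, LinearMap.sub_apply, Module.End.one_apply, sub_eq_zero]
  exact ⟨fun ⟨w, hw⟩ => hw ▸ apply_avgE hs w, fun hv => ⟨v, avgE_fix ho hv⟩⟩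

theorem pow_isom {B : BilinForm F V} {g : Module.End F V} (hg : ∀ u w, B (g u) (g w) = B u w) :
    ∀ (i : ℕ) (u w : V), B ((g ^ i) u) ((g ^ i) w) = B u w
  | 0, u, w => rfl
  | i + 1, u, w => by rw [pow_succ', Module.End.mul_apply, Module.End.mul_apply, hg, pow_isom hg i]

theorem avgE_adj {B : BilinForm F V} (hS : B.IsSymm) {s : Module.End F V}
    (hi : ∀ u w, B (s u) (s w) = B u w) {o : ℕ} (hs : s ^ o = 1) (ho : (o : F) ≠ 0) (u w : V) :
    B (avgE s o u) w = B u (avgE s o w) := by
  have key : ∀ y x, s x = x → B (avgE s o y) x = B y x := by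
    intro y x hx
    have hp : ∀ i, (s ^ i) x = x := fun i => by
      induction i with
      | zero => rfl
      | succ i ih => rw [pow_succ, Module.End.mul_apply, hx, ih]
    have ht : ∀ i ∈ Finset.range o, B ((s ^ i) y) x = B y x := fun i _ => by
      conv_lhs => rw [← hp i]
      exact pow_isom hi i y x
    rw [avgE, LinearMap.smul_apply, LinearMap.sum_apply, map_smul, LinearMap.smul_apply, map_sum,
      LinearMap.sum_apply, Finset.sum_congr rfl ht, Finset.sum_const, Finset.card_range,
      ← Nat.cast_smul_eq_nsmul F, smul_smul, inv_mul_cancel₀ ho, one_smul]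
  calc B (avgE s o u) w = B w (avgE s o u) := hS.eq _ _
    _ = B (avgE s o w) (avgE s o u) := (key w _ (apply_avgE hs u)).symm
    _ = B (avgE s o u) (avgE s o w) := hS.eq _ _
    _ = B u (avgE s o w) := key u _ (apply_avgE hs w)

/-- A self-adjoint idempotent splits the space orthogonally. -/
theorem split [FiniteDimensional F V] {B : BilinForm F V} (hS : B.IsSymm) (hB : B.Nondegenerate) {e : Module.End F V}
    (he : e * e = e) (hadj : ∀ u w, B (e u) w = B u (e w)) :
    IsCompl (LinearMap.range e) (LinearMap.ker e) ∧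
      (∀ x ∈ LinearMap.range e, ∀ k ∈ LinearMap.ker e, B x k = 0 ∧ B k x = 0) ∧
      (B.restrict (LinearMap.range e)).Nondegenerate ∧ (B.restrict (LinearMap.ker e)).Nondegenerate ∧
      ∀ w ∈ LinearMap.range e, e w = w := by
  have hfix : ∀ w ∈ LinearMap.range e, e w = w := by
    rintro _ ⟨x, rfl⟩; exact LinearMap.congr_fun he x
  have hec : IsCompl (LinearMap.range e) (LinearMap.ker e) := by
    refine ⟨Submodule.disjoint_def.2 fun w hw hk => ?_, codisjoint_iff.2 (eq_top_iff.2 fun w _ => ?_)⟩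
    · rw [← hfix w hw]; exact hk
    · exact Submodule.mem_sup.2 ⟨e w, ⟨w, rfl⟩, w - e w,
        by rw [LinearMap.mem_ker, map_sub, hfix _ ⟨w, rfl⟩, sub_self], by abel⟩
  have horth : ∀ x ∈ LinearMap.range e, ∀ k ∈ LinearMap.ker e, B x k = 0 ∧ B k x = 0 := fun x hx k hk => by
    have h1 : B x k = 0 := by rw [← hfix x hx, hadj, show e k = 0 from hk, map_zero]
    exact ⟨h1, by rw [hS.eq, h1]⟩
  refine ⟨hec, horth, ?_, ?_, hfix⟩
  · refine LinearMap.BilinForm.Nondegenerate.ofSeparatingLeft fun x hx => Subtype.ext (hB.1 _ fun w => ?_)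
    obtain ⟨a, ha, k, hk, rfl⟩ := Submodule.mem_sup.1 (show w ∈ LinearMap.range e ⊔ LinearMap.ker e by
      rw [hec.sup_eq_top]; trivial)
    rw [map_add, (horth x x.2 k hk).1, add_zero]
    exact hx ⟨a, ha⟩
  · refine LinearMap.BilinForm.Nondegenerate.ofSeparatingLeft fun x hx => Subtype.ext (hB.1 _ fun w => ?_)
    obtain ⟨a, ha, k, hk, rfl⟩ := Submodule.mem_sup.1 (show w ∈ LinearMap.range e ⊔ LinearMap.ker e by
      rw [hec.sup_eq_top]; trivial)
    rw [map_add, (horth a ha x x.2).2, zero_add]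
    exact hx ⟨k, hk⟩

theorem det_of_isCompl [FiniteDimensional F V] {W X : Submodule F V} (hc : IsCompl W X) {g : Module.End F V}
    (hW : ∀ w ∈ W, g w ∈ W) (hX : ∀ x ∈ X, g x ∈ X) :
    LinearMap.det g = LinearMap.det (g.restrict hW) * LinearMap.det (g.restrict hX) := by
  rw [← LinearMap.det_prodMap, ← LinearMap.det_conj ((g.restrict hW).prodMap (g.restrict hX))
    (Submodule.prodEquivOfIsCompl W X hc)]
  congr 1
  refine LinearMap.ext fun v => ?_
  obtain ⟨⟨a, b⟩, rfl⟩ := (Submodule.prodEquivOfIsCompl W X hc).surjective v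
  simp

theorem pow_intertwine {W : Type*} [AddCommGroup W] [Module F W] (ι : W →ₗ[F] V) {A : Module.End F W}
    {G : Module.End F V} (h : ∀ w, G (ι w) = ι (A w)) (j : ℕ) (w : W) : (G ^ j) (ι w) = ι ((A ^ j) w) :=
  (CfsgLib.SpecSpEight.gsum_intertwine ι A G h j w).1

/-- The formula moving `N = g - 1` across the form. -/
theorem sub_one_adj {B : BilinForm F V} {g : Module.End F V} (hg : ∀ u w, B (g u) (g w) = B u w) (u w : V) :
    B ((g - 1) u) (g w) = -B u ((g - 1) w) := by
  simp only [LinearMap.sub_apply, Module.End.one_apply, map_sub, hg]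
  ring

theorem sub_one_pow_adj {B : BilinForm F V} {g : Module.End F V} (hg : ∀ u w, B (g u) (g w) = B u w) :
    ∀ (i : ℕ) (u w : V), B (((g - 1) ^ i) u) ((g ^ i) w) = (-1) ^ i * B u (((g - 1) ^ i) w)
  | 0, u, w => by simp
  | i + 1, u, w => by
    have hc : ∀ z, (g - 1) ((g ^ i) z) = (g ^ i) ((g - 1) z) := fun z =>
      LinearMap.congr_fun ((((Commute.refl g).sub_left (Commute.one_left g))).pow_right i).eq z
    have e1 : ((g - 1) ^ (i + 1)) u = (g - 1) (((g - 1) ^ i) u) := by rw [pow_succ', Module.End.mul_apply]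
    have e2 : (g ^ (i + 1)) w = g ((g ^ i) w) := by rw [pow_succ', Module.End.mul_apply]
    have e3 : ((g - 1) ^ (i + 1)) w = ((g - 1) ^ i) ((g - 1) w) := by rw [pow_succ, Module.End.mul_apply]
    rw [e1, e2, sub_one_adj hg, hc, sub_one_pow_adj hg i, e3, pow_succ]
    ring

/-- When `N ^ (k+1) = 0` the form `B (N ^ k u) w` has parity `(-1) ^ k`. -/
theorem top_layer_symm {B : BilinForm F V} {g : Module.End F V} (hg : ∀ u w, B (g u) (g w) = B u w) {k : ℕ}
    (hk : (g - 1) ^ (k + 1) = 0) (u w : V) :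
    B (((g - 1) ^ k) u) w = (-1) ^ k * B u (((g - 1) ^ k) w) := by
  have hzero : ∀ z, B (((g - 1) ^ k) u) ((g - 1) z) = 0 := fun z => by
    have h := sub_one_adj hg (((g - 1) ^ k) u) z
    rw [← Module.End.mul_apply (g - 1), ← pow_succ', hk, LinearMap.zero_apply, map_zero,
      LinearMap.zero_apply] at h
    exact neg_eq_zero.1 h.symm
  have hgk : ∀ i, B (((g - 1) ^ k) u) ((g ^ i) w) = B (((g - 1) ^ k) u) w := fun i => by
    induction i with
    | zero => rfl
    | succ i ih =>
      have h := hzero ((g ^ i) w)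
      rw [LinearMap.sub_apply, Module.End.one_apply, map_sub, sub_eq_zero] at h
      rw [pow_succ', Module.End.mul_apply, h, ih]
  rw [← hgk k, sub_one_pow_adj hg]

/-- A unipotent isometry in even dimension is not a single Jordan block. -/
theorem nilp_lt_dim [FiniteDimensional F V] (h2 : (2 : F) ≠ 0) {B : BilinForm F V} (hS : B.IsSymm)
    (hB : B.Nondegenerate) {g : Module.End F V} (hg : ∀ u w, B (g u) (g w) = B u w) {n : ℕ}
    (hn : finrank F V = n) (hev : Even n) {L : ℕ} (hL : (g - 1) ^ L = 0) : (g - 1) ^ (n - 1) = 0 := by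
  rcases Nat.eq_zero_or_pos n with rfl | hpos
  · haveI : Subsingleton V := (Module.finrank_zero_iff (R := F)).1 hn
    exact LinearMap.ext fun _ => Subsingleton.elim _ _
  obtain ⟨k, rfl⟩ : ∃ k, n = k + 1 := ⟨n - 1, by omega⟩
  have hodd : Odd k := Nat.not_even_iff_odd.1 (Nat.even_add_one.1 hev)
  set N := g - 1 with hN
  rw [Nat.add_sub_cancel]
  by_contra hne
  obtain ⟨x, hx⟩ : ∃ x, (N ^ k) x ≠ 0 := by
    by_contra hc
    push Not at hc
    exact hne (LinearMap.ext hc)
  have hker : finrank F (LinearMap.ker N) ≤ 1 := by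
    by_contra hc
    exact hne (by rw [← CfsgLib.SpecSpEight.ker_pow_drop hL (show 2 ≤ _ by omega), hn, Nat.add_sub_cancel])
  have htop : N ^ (k + 1) = 0 := by
    refine LinearMap.ext fun z => ?_
    have h1 : z ∈ LinearMap.ker (N ^ max L (k + 1)) := by
      rw [LinearMap.mem_ker, pow_eq_zero_of_le (le_max_left _ _) hL, LinearMap.zero_apply]
    rw [← hn]
    exact Module.End.ker_pow_le_ker_pow_finrank N _ h1
  have hr : (N ^ k) x ∈ LinearMap.ker N := by
    rw [LinearMap.mem_ker, ← Module.End.mul_apply, ← pow_succ', htop]; rfl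
  have hr1 : finrank F (LinearMap.ker N) = 1 := by
    refine le_antisymm hker (Nat.one_le_iff_ne_zero.2 fun h0 => hx ?_)
    have := Submodule.finrank_eq_zero.1 h0
    rw [this] at hr
    exact (Submodule.mem_bot F).1 hr
  have hsym : ∀ u w, B ((N ^ k) u) w = -B u ((N ^ k) w) := fun u w => by
    rw [hN, top_layer_symm hg htop, hodd.neg_one_pow, neg_one_mul]
  refine hx (hB.1 _ fun y => ?_)
  have hy : (N ^ k) y ∈ LinearMap.ker N := by
    rw [LinearMap.mem_ker, ← Module.End.mul_apply, ← pow_succ', htop]; rfl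
  obtain ⟨c, hc⟩ := (finrank_eq_one_iff_of_nonzero' (⟨(N ^ k) x, hr⟩ : LinearMap.ker N)
    (fun e => hx (congrArg Subtype.val e))).1 hr1 ⟨(N ^ k) y, hy⟩
  have hc' : c • (N ^ k) x = (N ^ k) y := congrArg Subtype.val hc
  have h0 : B ((N ^ k) x) x = 0 := by
    have h1 := hsym x x
    rw [hS.eq x ((N ^ k) x)] at h1
    have h3 : (2 : F) * B ((N ^ k) x) x = 0 := by linear_combination h1
    exact (mul_eq_zero.1 h3).resolve_left h2
  rw [hsym, ← hc', map_smul, hS.eq x ((N ^ k) x), h0, smul_zero, neg_zero]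

section charp

variable {p : ℕ} [hp : Fact p.Prime] [CharP F p]

theorem sub_one_pow_char [Nontrivial V] (g : Module.End F V) (a : ℕ) : (g - 1) ^ p ^ a = g ^ p ^ a - 1 := by
  haveI : CharP (Module.End F V) p :=
    charP_of_injective_algebraMap (FaithfulSMul.algebraMap_injective F _) p
  rw [sub_pow_char_pow_of_commute p _ (Commute.one_right _), one_pow]

theorem sub_one_pow_char' (g : Module.End F V) (a : ℕ) : (g - 1) ^ p ^ a = g ^ p ^ a - 1 := by
  rcases subsingleton_or_nontrivial V with _ | _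
  · exact LinearMap.ext fun _ => Subsingleton.elim _ _
  · exact sub_one_pow_char g a

open Polynomial in
theorem gsum_char_pow (g : Module.End F V) (a : ℕ) : gsum g (p ^ a) = (g - 1) ^ (p ^ a - 1) := by
  have h : ((X : F[X]) - 1) ^ (p ^ a - 1) = ∑ i ∈ Finset.range (p ^ a), X ^ i := by
    have hne : ((X : F[X]) - 1) ≠ 0 := by simpa using X_sub_C_ne_zero (1 : F)
    refine mul_left_cancel₀ hne ?_
    rw [← pow_succ', Nat.sub_add_cancel (Nat.one_le_pow _ _ hp.out.pos), mul_geom_sum, sub_pow_char_pow, one_pow]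
  have h2 := congrArg (aeval g) h
  simpa [gsum] using h2.symm

/-- The criterion for a vector to raise the order to `p ^ (a+1)`. -/
theorem crit (g : Module.End F V) {b a : ℕ} (hb : g ^ p ^ b = 1) {v : V}
    (hv : ((g - 1) ^ (p ^ a - 1) : Module.End F V) v ≠ 0) {j : ℕ} (hj : g ^ j = 1)
    (hs : gsum g j v = 0) : p ^ (a + 1) ∣ j := by
  have hgcd : g ^ Nat.gcd (p ^ b) j = 1 := pow_gcd_eq_one.2 ⟨hb, hj⟩
  obtain ⟨i, -, hi'⟩ := (Nat.dvd_prime_pow hp.out).1 (Nat.gcd_dvd_left (p ^ b) j)
  rcases lt_trichotomy i a with hia | rfl | hia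
  · exfalso
    have h0 : (g - 1) ^ p ^ i = 0 := by rw [sub_one_pow_char', ← hi', hgcd, sub_self]
    have hle : p ^ i ≤ p ^ a - 1 := by
      have := Nat.pow_lt_pow_right hp.out.one_lt hia
      omega
    exact hv (by rw [pow_eq_zero_of_le hle h0]; rfl)
  · obtain ⟨c, rfl⟩ : p ^ i ∣ j := hi' ▸ Nat.gcd_dvd_right _ j
    rw [CfsgLib.SpecSpEight.gsum_mul g (hi' ▸ hgcd), gsum_char_pow, LinearMap.smul_apply,
      ← Nat.cast_smul_eq_nsmul F] at hs
    exact mul_dvd_mul_left _ ((CharP.cast_eq_zero_iff F p c).1 ((smul_eq_zero.1 hs).resolve_right hv))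
  · exact (pow_dvd_pow p hia).trans (hi' ▸ Nat.gcd_dvd_right _ j)

end charp

/-- A map of a summand extended by the identity. -/
def extFun (e : Module.End F V) (t : ↥(LinearMap.range e) ≃ₗ[F] ↥(LinearMap.range e)) : Module.End F V :=
  (LinearMap.range e).subtype.comp (t.toLinearMap.comp e.rangeRestrict) + (1 - e)

theorem extFun_apply (e : Module.End F V) (t : ↥(LinearMap.range e) ≃ₗ[F] ↥(LinearMap.range e)) (v : V) :
    extFun e t v = (t (e.rangeRestrict v) : V) + (v - e v) := rfl

theorem extFun_mul {e : Module.End F V} (he : e * e = e)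
    (t t' : ↥(LinearMap.range e) ≃ₗ[F] ↥(LinearMap.range e)) (v : V) :
    extFun e t (extFun e t' v) = extFun e (t'.trans t) v := by
  have hee : ∀ v, e (e v) = e v := fun v => LinearMap.congr_fun he v
  obtain ⟨x, hx⟩ := (t' (e.rangeRestrict v)).2
  have h1 : e (extFun e t' v) = (t' (e.rangeRestrict v) : V) := by
    rw [extFun_apply, map_add, map_sub, hee, sub_self, add_zero, ← hx, hee]
  rw [extFun_apply e t, show e.rangeRestrict (extFun e t' v) = t' (e.rangeRestrict v) from Subtype.ext h1, h1,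
    extFun_apply, extFun_apply, add_sub_cancel_left, LinearEquiv.trans_apply]

theorem extFun_refl (e : Module.End F V) (v : V) : extFun e (LinearEquiv.refl F _) v = v := by
  rw [extFun_apply]
  exact add_sub_cancel (e v) v

/-- Extension of the isometries of a summand by the identity. -/
def extendHom {B : BilinForm F V} (hS : B.IsSymm) {e : Module.End F V} (he : e * e = e)
    (hadj : ∀ u w, B (e u) w = B u (e w)) : bIso (B.restrict (LinearMap.range e)) →* bIso B where
  toFun u :=
    ⟨LinearEquiv.ofLinearMap (extFun e u.1) (extFun e u.1.symm)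
      (LinearMap.ext fun v => by
        show extFun e u.1 (extFun e u.1.symm v) = v
        rw [extFun_mul he, LinearEquiv.symm_trans_self, extFun_refl])
      (LinearMap.ext fun v => by
        show extFun e u.1.symm (extFun e u.1 v) = v
        rw [extFun_mul he, LinearEquiv.self_trans_symm, extFun_refl]), fun x y => by
      show B (extFun e u.1 x) (extFun e u.1 y) = B x y
      have hee : ∀ v, e (e v) = e v := fun v => LinearMap.congr_fun he v
      have hz : ∀ w ∈ LinearMap.range e, ∀ z : V, B w (z - e z) = 0 ∧ B (z - e z) w = 0 := by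
        rintro _ ⟨w, rfl⟩ z
        have h1 : B (e w) (z - e z) = 0 := by rw [hadj, map_sub, hee, sub_self, map_zero]
        exact ⟨h1, by rw [hS.eq, h1]⟩
      have h2 : B (u.1 (e.rangeRestrict x) : V) (u.1 (e.rangeRestrict y) : V) = B (e x) (e y) :=
        u.2 (e.rangeRestrict x) (e.rangeRestrict y)
      conv_rhs => rw [← add_sub_cancel (e x) x, ← add_sub_cancel (e y) y]
      rw [extFun_apply, extFun_apply]
      simp only [map_add, LinearMap.add_apply]
      rw [h2, (hz _ (u.1 (e.rangeRestrict x)).2 y).1, (hz _ (u.1 (e.rangeRestrict y)).2 x).2,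
        (hz _ ⟨x, rfl⟩ y).1, (hz _ ⟨y, rfl⟩ x).2]⟩
  map_one' := Subtype.ext (LinearEquiv.ext fun v => extFun_refl e v)
  map_mul' t t' := Subtype.ext (LinearEquiv.ext fun v => (extFun_mul he t.1 t'.1 v).symm)

theorem extendHom_apply {B : BilinForm F V} (hS : B.IsSymm) {e : Module.End F V} (he : e * e = e)
    (hadj : ∀ u w, B (e u) w = B u (e w)) (u : bIso (B.restrict (LinearMap.range e))) (v : V) :
    (extendHom hS he hadj u).1 v = (u.1 (e.rangeRestrict v) : V) + (v - e v) := rfl

theorem extendHom_injective {B : BilinForm F V} (hS : B.IsSymm) {e : Module.End F V} (he : e * e = e)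
    (hadj : ∀ u w, B (e u) w = B u (e w)) : Function.Injective (extendHom hS he hadj) := fun t t' h =>
  Subtype.ext (LinearEquiv.ext fun w => Subtype.ext (by
    obtain ⟨x, hx⟩ := w.2
    have h1 : e w.1 = w.1 := by rw [← hx]; exact LinearMap.congr_fun he x
    have h2 : e.rangeRestrict w.1 = w := Subtype.ext h1
    have h3 := congrArg (fun a : bIso B => a.1 w.1) h
    simpa only [extendHom_apply, h1, h2, sub_self, add_zero] using h3))

end CfsgLib.SpecNine
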