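import Cfsg.Agent.SpecNine.Unip
import Cfsg.Agent.Geo.OCounts

/-!
Types of orthogonal sums in odd characteristic, and the unipotent summands of both types.
-/

set_option autoImplicit false
set_option linter.style.haveILetI false
set_option linter.unusedSectionVars false

namespace CfsgLib.SpecNine

open Module QuadraticMap CfsgLib.Forms CfsgLib.Quad CfsgLib.Geo.OCounts
open CfsgLib.SpecSpEight (toEnd toEnd_apply gsum oProd gsum_oProd oGroupCongr_toEnd)

universe u v

variable {F : Type u} [Field F] [Fintype F]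

local notation "qF" => (Nat.card F : ℤ)

theorem prod_nondeg' {V W : Type*} [AddCommGroup V] [Module F V] [AddCommGroup W] [Module F W]
    {Q : QuadraticForm F V} {R : QuadraticForm F W} (hQ : (polarBilin Q).Nondegenerate)
    (hR : (polarBilin R).Nondegenerate) : (polarBilin (Q.prod R)).Nondegenerate :=
  CfsgLib.SpecSpEight.prod_nondeg hQ hR

/-- The type of an orthogonal sum. -/
theorem etype_prod {V W : Type v} [AddCommGroup V] [Module F V] [Finite V] [AddCommGroup W] [Module F W]
    [Finite W] {QW : QuadraticForm F W} {QP : QuadraticForm F V} {k n : ℕ} {ε t : ℤ}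
    (hW : EType (⇑QW) k ε) (hWc : Nat.card W = Nat.card F ^ (2 * k))
    (hP : EType (⇑QP) n t) (hPc : Nat.card V = Nat.card F ^ (2 * n)) :
    EType (⇑(QW.prod QP)) (k + n) (ε * t) := by
  classical
  haveI := Fintype.ofFinite W
  haveI := Fintype.ofFinite V
  have hq : qF ≠ 0 := by have := one_lt_card (F := F); omega
  let N0 : ℤ := Nat.card {z // QP z = 0}
  let N1 : ℤ := Nat.card {z // QP z = 1}
  have hfib' : ∀ c : F, (Nat.card {z // QP z = c} : ℤ) = if c = 0 then N0 else N1 := fun c => by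
    split_ifs with h
    · rw [h]
    · exact mul_left_cancel₀ hq ((hP.1 c h).trans (hP.1 1 one_ne_zero).symm)
  have key : ∀ c : F, (Nat.card {v // QW.prod QP v = c} : ℤ) =
      Nat.card {w // QW w = c} * N0 + (qF ^ (2 * k) - Nat.card {w // QW w = c}) * N1 := by
    intro c
    have e1 : {v // QW.prod QP v = c} ≃ Σ w : W, {z : V // QP z = c - QW w} :=
      { toFun := fun v => ⟨v.1.1, v.1.2, by
          have := v.2; rw [QuadraticMap.prod_apply] at this; exact eq_sub_of_add_eq' this⟩
        invFun := fun x => ⟨(x.1, x.2.1), by rw [QuadraticMap.prod_apply, x.2.2, add_sub_cancel]⟩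
        left_inv := fun v => rfl
        right_inv := fun x => rfl }
    rw [Nat.card_congr e1, Nat.card_sigma, Nat.cast_sum, Finset.sum_congr rfl fun w _ => hfib' (c - QW w),
      Finset.sum_ite, Finset.sum_const, Finset.sum_const, nsmul_eq_mul, nsmul_eq_mul]
    have hA : (Finset.univ.filter fun w => c - QW w = 0).card = Nat.card {w // QW w = c} := by
      rw [Nat.card_eq_fintype_card, Fintype.card_subtype]
      congr 1; ext w; simp only [Finset.mem_filter, Finset.mem_univ, true_and]; rw [sub_eq_zero, eq_comm]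
    have hB : ((Finset.univ.filter fun w => c - QW w = 0).card : ℤ) +
        (Finset.univ.filter fun w => ¬ c - QW w = 0).card = qF ^ (2 * k) := by
      rw [← Nat.cast_add, Finset.card_filter_add_card_filter_not, Finset.card_univ, ← Nat.card_eq_fintype_card, hWc,
        Nat.cast_pow]
    rw [hA] at hB ⊢
    rw [show ((Finset.univ.filter fun w => ¬ c - QW w = 0).card : ℤ) = qF ^ (2 * k) - Nat.card {w // QW w = c} by
      linarith]
  have h0 : qF * N0 = qF ^ (2 * n) + t * (qF ^ (n + 1) - qF ^ n) := hP.2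
  have h1 : qF * N1 = qF ^ (2 * n) - t * qF ^ n := hP.1 1 one_ne_zero
  refine ⟨fun c hc => mul_left_cancel₀ hq ?_, mul_left_cancel₀ hq ?_⟩
  · rw [key, show 2 * (k + n) = 2 * k + 2 * n by ring, pow_add, pow_add]
    set A : ℤ := ((Nat.card {w // QW w = c} : ℕ) : ℤ)
    have hA : qF * A = qF ^ (2 * k) - ε * qF ^ k := hW.1 c hc
    linear_combination (qF * A) * h0 + (qF * qF ^ (2 * k) - qF * A) * h1 + (t * qF ^ (n + 1)) * hA
  · rw [key, show 2 * (k + n) = 2 * k + 2 * n by ring, pow_add, pow_add qF k n, add_assoc k n 1, pow_add qF k (n + 1)]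
    set A : ℤ := ((Nat.card {w // QW w = 0} : ℕ) : ℤ)
    have hA : qF * A = qF ^ (2 * k) + ε * (qF ^ (k + 1) - qF ^ k) := hW.2
    rw [pow_succ qF k] at hA
    rw [pow_succ qF n] at h0
    rw [pow_succ qF n]
    linear_combination (qF * A) * h0 + (qF * qF ^ (2 * k) - qF * A) * h1 + (t * qF ^ n * qF) * hA

theorem card_space {V : Type v} [AddCommGroup V] [Module F V] [FiniteDimensional F V] {k : ℕ}
    (h : finrank F V = 2 * k) : Nat.card V = Nat.card F ^ (2 * k) := by
  rw [Module.natCard_eq_pow_finrank (K := F), h]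

/-- A form with a unipotent isometry and a vector. -/
def UForm (F : Type u) [Field F] [Fintype F] (p k : ℕ) (ε : ℤ) : Prop :=
  ∃ (V : Type u) (_ : AddCommGroup V) (_ : Module F V) (_ : FiniteDimensional F V) (R : QuadraticForm F V),
    (polarBilin R).Nondegenerate ∧ finrank F V = 2 * k ∧ EType (⇑R) k ε ∧
    ∃ (u : oGroup R) (v : V), (∃ b, u ^ p ^ b = 1) ∧
      ∀ j : ℕ, u ^ j = 1 → gsum (toEnd R u) j v = 0 → p ^ Nat.clog p (2 * k + 1) ∣ j

variable {p : ℕ} [hp : Fact p.Prime] [CharP F p]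

theorem uform_zero : UForm F p 0 1 := by
  refine ⟨Fin 0 ⊕ Fin 0 → F, inferInstance, inferInstance, inferInstance, plusQ 0, plusQ_nondeg 0, by simp,
    etype_plus 0, 1, 0, ⟨0, one_pow _⟩, fun j _ _ => ?_⟩
  rw [mul_zero, zero_add, Nat.clog_one_right, pow_zero]
  exact one_dvd _

/-- Both types carry the unipotent. -/
theorem uform_succ (h2 : (2 : F) ≠ 0) (k : ℕ) (ε : ℤ) (hε : ε = 1 ∨ ε = -1) : UForm F p (k + 1) ε := by
  classical
  obtain ⟨c, hc0, hfib⟩ : ∃ c : F, c ≠ 0 ∧
      ∀ d : F, d ≠ 0 → (Nat.card {z : F × F // z.1 * z.1 + c * (z.2 * z.2) = d} : ℤ) = qF - ε := by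
    rcases hε with rfl | rfl
    · refine ⟨-1, neg_ne_zero.2 one_ne_zero, fun d hd => ?_⟩
      rw [← card_mul_fibre hd]
      refine congrArg Nat.cast (Nat.card_congr
        { toFun := fun z => ⟨(z.1.1 - z.1.2, z.1.1 + z.1.2), by linear_combination z.2⟩
          invFun := fun z => ⟨((z.1.1 + z.1.2) / 2, (z.1.2 - z.1.1) / 2), by
            field_simp
            linear_combination 4 * z.2⟩
          left_inv := fun z => Subtype.ext (Prod.ext (by field_simp; ring) (by field_simp; ring))
          right_inv := fun z => Subtype.ext (Prod.ext (by field_simp; ring) (by field_simp; ring)) })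
    · obtain ⟨ν, hν⟩ := FiniteField.exists_nonsquare (F := F) (fun e => h2 (by
        have := ringChar.Nat.cast_ringChar (R := F)
        rw [e] at this
        exact_mod_cast this))
      have hν0 : ν ≠ 0 := fun e => hν (e ▸ ⟨0, by ring⟩)
      have hab : ∀ z₁ z₂ : F, z₁ ^ 2 + 0 * z₁ * z₂ + -ν * z₂ ^ 2 = 0 → z₁ = 0 ∧ z₂ = 0 := fun z₁ z₂ h => by
        by_cases hz : z₂ = 0
        · subst hz; exact ⟨by simpa using h, rfl⟩
        · exact absurd ⟨z₁ / z₂, by field_simp; linear_combination -h⟩ hν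
      refine ⟨-ν, neg_ne_zero.2 hν0, fun d hd => ?_⟩
      rw [← card_plane_fibre hab hd]
      refine congrArg Nat.cast (Nat.card_congr (Equiv.subtypeEquivRight fun z => ?_))
      rw [planeQ_apply]
      exact ⟨fun h => by rw [← h]; ring, fun h => by rw [← h]; ring⟩
  let R : QuadraticForm F ((Unit ⊕ (Fin k ⊕ Fin k) → F) × F) := (oddQ k).prod (c • QuadraticMap.sq)
  have hR : ∀ v, R v = oddQ k v.1 + c * (v.2 * v.2) := fun v => by
    simp [R, QuadraticMap.prod_apply, QuadraticMap.sq_apply]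
  have hsq : (polarBilin (c • (QuadraticMap.sq (R := F) (A := F)))).Nondegenerate := by
    have h1 : ∀ x, (∀ y, polar (c • (QuadraticMap.sq (R := F) (A := F))) x y = 0) → x = 0 := fun x hx => by
      have := hx 1
      simp [polar, QuadraticMap.sq_apply] at this
      exact (mul_eq_zero.1 (show (2 * c) * x = 0 by linear_combination this)).resolve_left (mul_ne_zero h2 hc0)
    exact ⟨fun x hx => h1 x hx, fun x hx => h1 x fun y => by rw [polar_comm]; exact hx y⟩
  have hdim : finrank F ((Unit ⊕ (Fin k ⊕ Fin k) → F) × F) = 2 * (k + 1) := by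
    simp; omega
  refine ⟨_, inferInstance, inferInstance, inferInstance, R, prod_nondeg' (oddQ_nondeg h2 k) hsq, hdim, ?_, ?_⟩
  · let e : ((Unit ⊕ (Fin k ⊕ Fin k) → F) × F) ≃ (Fin k ⊕ Fin k → F) × (F × F) :=
      { toFun := fun v => (fun i => v.1 (.inr i), v.1 (.inl ()), v.2)
        invFun := fun x => (Sum.elim (fun _ => x.2.1) x.1, x.2.2)
        left_inv := fun v => Prod.ext (funext fun i => by rcases i with i | i <;> rfl) rfl
        right_inv := fun x => rfl }
    have h := etype_add (Q := ⇑R) (QW := ⇑(plusQ (F := F) k))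
      (QP := fun z : F × F => z.1 * z.1 + c * (z.2 * z.2)) (s := ε) e
      (fun v => by
        rw [hR, oddQ_coe, plusQ_coe]
        show _ = (∑ i : Fin k, v.1 (.inr (.inl i)) * v.1 (.inr (.inr i))) +
          (v.1 (.inl ()) * v.1 (.inl ()) + c * (v.2 * v.2))
        simp only [Cfsg.quadFormOdd]
        ring)
      (by rcases hε with rfl | rfl <;> norm_num)
      (by rw [Nat.card_prod, pow_two]) hfib (etype_plus k)
      (by rw [Nat.card_fun, Nat.card_sum, Nat.card_fin, two_mul])
    rwa [mul_one] at h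
  obtain ⟨u, h0, h1⟩ := exists_regular (F := F) h2 k
  obtain ⟨x, hx⟩ : ∃ x, ((toEnd _ u - 1) ^ (2 * k)) x ≠ 0 := by
    by_contra hc
    push Not at hc
    exact h1 (LinearMap.ext hc)
  have hub : u ^ p ^ Nat.clog p (2 * k + 1) = 1 := by
    refine CfsgLib.SpecSpEight.toEnd_injective _ ?_
    rw [map_pow, map_one, ← sub_eq_zero, ← sub_one_pow_char']
    exact pow_eq_zero_of_le (Nat.le_pow_clog hp.out.one_lt _) h0
  have hp2 : p ≠ 2 := fun e => h2 (by subst e; exact_mod_cast CharP.cast_eq_zero F 2)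
  set e := Nat.clog p (2 * (k + 1) + 1) with he
  have hepos : 0 < e := Nat.clog_pos hp.out.one_lt (by omega)
  have hlt : p ^ (e - 1) < 2 * (k + 1) + 1 :=
    Nat.pow_pred_clog_lt_self hp.out.one_lt (by omega)
  have hle : p ^ (e - 1) - 1 ≤ 2 * k := by
    obtain ⟨t, ht⟩ := (hp.out.odd_of_ne_two hp2).pow (n := e - 1)
    omega
  have hv : ((toEnd _ u - 1) ^ (p ^ (e - 1) - 1)) x ≠ 0 := fun hz => hx (by
    rw [show 2 * k = (2 * k - (p ^ (e - 1) - 1)) + (p ^ (e - 1) - 1) by omega, pow_add, Module.End.mul_apply, hz,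
      map_zero])
  refine ⟨oProd _ _ (u, 1), (x, 0), ⟨_, by rw [← map_pow, Prod.pow_mk, hub, one_pow]; exact map_one _⟩,
    fun j hj hs => ?_⟩
  rw [← map_pow, ← map_one (oProd (oddQ k) (c • (QuadraticMap.sq (R := F) (A := F))))] at hj
  have hj1 : u ^ j = 1 := congrArg Prod.fst (CfsgLib.SpecSpEight.oProd_injective _ _ hj)
  rw [gsum_oProd] at hs
  have hs1 := (Prod.ext_iff.1 hs).1
  have := crit (p := p) (a := e - 1) (toEnd _ u) (b := Nat.clog p (2 * k + 1))
    (by rw [← map_pow, hub, map_one]) hv (by rw [← map_pow, hj1, map_one]) hs1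
  rwa [Nat.sub_add_cancel hepos] at this

theorem exists_uform (h2 : (2 : F) ≠ 0) (k : ℕ) (ε : ℤ) (hε : ε = 1 ∨ ε = -1) (h0 : k = 0 → ε = 1) :
    UForm F p k ε := by
  rcases Nat.eq_zero_or_pos k with rfl | hk
  · rw [h0 rfl]; exact uform_zero
  · obtain ⟨k, rfl⟩ : ∃ m, k = m + 1 := ⟨k - 1, by omega⟩
    exact uform_succ h2 k ε hε

end CfsgLib.SpecNine
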