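import Cfsg.Agent.SpecNine.Basic

/-!
The shape of an isometry in odd characteristic: tori with their nilpotencies, a unipotent part and a negated
unipotent part, refined by the freeness of a single semisimple torus.
-/

set_option autoImplicit false
set_option linter.style.haveILetI false
set_option linter.unusedSectionVars false
set_option maxHeartbeats 400000

namespace CfsgLib.SpecNine

open Module CfsgLib.Forms CfsgLib.SpecAbsorb
open CfsgLib.SpecSpEight (torN pow_dvd_eq_one two_cases_field)
open LinearMap (BilinForm)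

universe u v

variable {F : Type u} [Field F] [Fintype F] {p : ℕ} [hp : Fact p.Prime] [CharP F p]

/-- The weight of a list of tori. -/
def wsum (T : List (ℕ × Bool × ℕ)) : ℕ := (T.map fun x => x.1 * x.2.2).sum

theorem wsum_append (T T' : List (ℕ × Bool × ℕ)) : wsum (T ++ T') = wsum T + wsum T' := by
  simp [wsum, List.map_append]

/-- The shape of an isometry of a symmetric form. -/
structure NShape {V : Type v} [AddCommGroup V] [Module F V] (p : ℕ) (g : Module.End F V) where
  /-- tori: degree, sign, nilpotency -/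
  T : List (ℕ × Bool × ℕ)
  /-- unipotent part -/
  a : ℕ
  /-- negated unipotent part -/
  b : ℕ
  /-- its nilpotency -/
  nb : ℕ
  pos : ∀ x ∈ T, 1 ≤ x.1 ∧ 1 ≤ x.2.2
  dim : 2 * wsum T + a + b = finrank F V
  nb_le : nb ≤ b
  nb_lt : Even b → 1 ≤ b → nb < b
  det : LinearMap.det g = (-1) ^ b
  rel : ∀ M : ℕ, (∀ x ∈ T, torN (Fintype.card F) x.1 x.2.1 * p ^ Nat.clog p x.2.2 ∣ M) →
    p ^ Nat.clog p a ∣ M → p ^ Nat.clog p nb ∣ M → (1 ≤ b → Even M) → g ^ M = 1
  pure : ∀ x : ℕ × Bool × ℕ, T = [x] → b = 0 → x.2.2 = 1 → ∀ j m : ℕ, ¬ p ∣ m → g ^ (j * m) = 1 →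
    g ^ j = 1 ∨ finrank F (LinearMap.ker (g ^ j - 1)) = a

theorem det_sq_one {V : Type v} [AddCommGroup V] [Module F V] [FiniteDimensional F V] {B : BilinForm F V}
    (hB : B.Nondegenerate) {g : Module.End F V} (hg : ∀ u w, B (g u) (g w) = B u w) :
    LinearMap.det g = 1 ∨ LinearMap.det g = -1 := by
  classical
  let b := Module.finBasis F V
  have hMd : (LinearMap.BilinForm.toMatrix b B).det ≠ 0 :=
    (LinearMap.BilinForm.nondegenerate_iff_det_ne_zero b).1 hB
  have h : Matrix.transpose (LinearMap.toMatrix b b g) * LinearMap.BilinForm.toMatrix b B * LinearMap.toMatrix b b g =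
      LinearMap.BilinForm.toMatrix b B := by
    rw [← LinearMap.BilinForm.toMatrix_comp b b]
    congr 1
    exact LinearMap.ext fun x => LinearMap.ext fun y => hg x y
  have h2 := congrArg Matrix.det h
  rw [Matrix.det_mul, Matrix.det_mul, Matrix.det_transpose, LinearMap.det_toMatrix] at h2
  exact mul_self_eq_one_iff.1 (mul_right_cancel₀ hMd (by linear_combination h2))

theorem det_of_pow {V : Type v} [AddCommGroup V] [Module F V] [FiniteDimensional F V] {B : BilinForm F V}
    (hB : B.Nondegenerate) {g : Module.End F V} (hg : ∀ u w, B (g u) (g w) = B u w) {N : ℕ} (hN : Odd N) {c : F}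
    (h : LinearMap.det (g ^ N) = c) : LinearMap.det g = c := by
  rw [← h, map_pow]
  rcases det_sq_one hB hg with e | e <;> rw [e]
  · rw [one_pow]
  · rw [hN.neg_one_pow]

theorem exists_eigen {V : Type v} [AddCommGroup V] [Module F V] [Nontrivial V] {f : Module.End F V} {L : ℕ}
    (hf : f ^ L = 0) : ∃ v, v ≠ 0 ∧ f v = 0 := by
  by_contra hc
  push Not at hc
  have hinj : ∀ i v, (f ^ i) v = 0 → v = 0 := by
    intro i
    induction i with
    | zero => exact fun v hv => hv
    | succ i ih =>
      intro v hv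
      rw [pow_succ', Module.End.mul_apply] at hv
      exact ih v (by_contra fun hne => hc _ hne hv)
  obtain ⟨v, hv⟩ := exists_ne (0 : V)
  exact hv (hinj L v (by rw [hf]; rfl))

theorem pow_finrank_eq_zero {V : Type v} [AddCommGroup V] [Module F V] [FiniteDimensional F V]
    {f : Module.End F V} {L : ℕ} (hf : f ^ L = 0) : f ^ finrank F V = 0 :=
  LinearMap.ext fun z => Module.End.ker_pow_le_ker_pow_finrank f L (show (f ^ L) z = 0 by rw [hf]; rfl)

theorem exists_period {V : Type v} [AddCommGroup V] [Module F V] [FiniteDimensional F V] {B : BilinForm F V}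
    (hB : B.Nondegenerate) {g : Module.End F V} (hg : ∀ u w, B (g u) (g w) = B u w) :
    ∃ k o : ℕ, ¬ p ∣ o ∧ g ^ (p ^ k * o) = 1 := by
  haveI : Finite V := Module.finite_of_finite F
  haveI : Finite (Module.End F V) := Module.finite_of_finite F
  have hu : IsUnit g := (Module.End.isUnit_iff g).2 <| by
    have hinj : Function.Injective g := fun x y h => sub_eq_zero.1 (hB.1 _ fun z => by
      rw [← hg, map_sub, h, sub_self, map_zero, LinearMap.zero_apply])
    exact ⟨hinj, Finite.injective_iff_surjective.1 hinj⟩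
  obtain ⟨u, rfl⟩ := hu
  obtain ⟨k, o, ho, hN⟩ := Nat.exists_eq_pow_mul_and_not_dvd (orderOf_pos u).ne' p hp.out.ne_one
  exact ⟨k, o, ho, by rw [← hN, ← Units.val_pow_eq_pow_val, pow_orderOf_eq_one, Units.val_one]⟩

theorem finrank_ker_split {V : Type v} [AddCommGroup V] [Module F V] [FiniteDimensional F V]
    {W X : Submodule F V} (hc : IsCompl W X) {t : Module.End F V} (hW : ∀ w ∈ W, t w ∈ W)
    (hX : ∀ x ∈ X, t x ∈ X) :
    finrank F (LinearMap.ker (t - 1)) = finrank F (LinearMap.ker (t.restrict hW - 1)) +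
      finrank F (LinearMap.ker (t.restrict hX - 1)) := by
  have e : LinearMap.ker (t - 1) = (LinearMap.ker (t.restrict hW - 1)).map W.subtype ⊔
      (LinearMap.ker (t.restrict hX - 1)).map X.subtype := by
    refine le_antisymm (fun v hv => ?_) (sup_le ?_ ?_)
    · obtain ⟨a, ha, b, hb, rfl⟩ := Submodule.mem_sup.1 (show v ∈ W ⊔ X by rw [hc.sup_eq_top]; trivial)
      rw [LinearMap.mem_ker, LinearMap.sub_apply, Module.End.one_apply, map_add] at hv
      have h1 : t a - a = b - t b := by
        rw [sub_eq_zero] at hv; rw [sub_eq_sub_iff_add_eq_add, hv]; abel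
      have h2 : t a - a = 0 := Submodule.disjoint_def.1 hc.disjoint _ (sub_mem (hW a ha) ha)
        (h1 ▸ sub_mem hb (hX b hb))
      exact Submodule.mem_sup.2 ⟨a, ⟨⟨a, ha⟩, Subtype.ext h2, rfl⟩, b,
        ⟨⟨b, hb⟩, Subtype.ext (show t b - b = 0 by rw [← neg_sub, ← h1, h2, neg_zero]), rfl⟩, rfl⟩
    · rintro _ ⟨w, hw, rfl⟩
      exact congrArg Subtype.val hw
    · rintro _ ⟨w, hw, rfl⟩
      exact congrArg Subtype.val hw
  have h := Submodule.finrank_sup_add_finrank_inf_eq ((LinearMap.ker (t.restrict hW - 1)).map W.subtype)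
    ((LinearMap.ker (t.restrict hX - 1)).map X.subtype)
  rw [(hc.disjoint.mono (Submodule.map_subtype_le _ _) (Submodule.map_subtype_le _ _)).eq_bot, finrank_bot,
    add_zero, ← e, Submodule.finrank_map_subtype_eq, Submodule.finrank_map_subtype_eq] at h
  exact h

/-- A cyclic part. -/
def nshapeTorus {V : Type v} [AddCommGroup V] [Module F V] [Nontrivial V] {g : Module.End F V} {h L : ℕ}
    (hh : 1 ≤ h) (hL : 1 ≤ L) (hn : 2 * (h * L) = finrank F V) (minus : Bool)
    (hd : LinearMap.det g = 1) (hg : (g ^ torN (Fintype.card F) h minus - 1) ^ L = 0)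
    (hfree : ∀ j m : ℕ, ¬ p ∣ m → g ^ (j * m) = 1 → g ^ j = 1 ∨ ∀ v, (g ^ j) v = v → v = 0) :
    NShape p g where
  T := [(h, minus, L)]
  a := 0
  b := 0
  nb := 0
  pos x hx := by rw [List.mem_singleton] at hx; subst hx; exact ⟨hh, hL⟩
  dim := by simp [wsum]; omega
  nb_le := le_rfl
  nb_lt _ h := by omega
  det := by rw [hd, pow_zero]
  rel M hT _ _ _ :=
    pow_dvd_eq_one (dvd_of_nilpotent (Nat.le_pow_clog hp.out.one_lt L) hg) (hT _ (List.mem_singleton_self _))
  pure x _ _ _ j m hm hj := (hfree j m hm hj).imp_right fun h0 => by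
    rw [LinearMap.ker_eq_bot'.2 fun v hv => h0 v ?_, finrank_bot]
    rwa [LinearMap.sub_apply, Module.End.one_apply, sub_eq_zero] at hv

theorem nshape (h2 : (2 : F) ≠ 0) : ∀ (N : ℕ) {V : Type v} [AddCommGroup V] [Module F V]
    [FiniteDimensional F V] (B : BilinForm F V), B.IsSymm → B.Nondegenerate → finrank F V = N →
    ∀ g : Module.End F V, (∀ u w, B (g u) (g w) = B u w) → Nonempty (NShape p g) := by
  intro N
  induction N using Nat.strong_induction_on with
  | _ N ih =>
    intro V _ _ _ B hS hB hV g hg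
    rcases Nat.eq_zero_or_pos N with rfl | hn
    · haveI : Subsingleton V := (Module.finrank_zero_iff (R := F)).1 (by omega)
      refine ⟨⟨[], 0, 0, 0, by simp, by simp [wsum, hV], le_rfl, fun _ h => by omega, ?_,
        fun _ _ _ _ _ => LinearMap.ext fun _ => Subsingleton.elim _ _, fun x hx => absurd hx (by simp)⟩⟩
      rw [show g = 1 from LinearMap.ext fun _ => Subsingleton.elim _ _, map_one, pow_zero]
    haveI : Nontrivial V := Module.nontrivial_of_finrank_pos (R := F) (by omega)
    have hp2 : p ≠ 2 := fun e => h2 (by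
      subst e; exact_mod_cast CharP.cast_eq_zero F 2)
    have hpodd : Odd p := hp.out.odd_of_ne_two hp2
    by_cases hex : ∃ e : Module.End F V, e * e = e ∧ e ≠ 0 ∧ e ≠ 1 ∧ Commute g e ∧
        ∀ u w, B (e u) w = B u (e w)
    · obtain ⟨e, he, he0, he1, hce, hee⟩ := hex
      obtain ⟨hec, horth, hnd1, hnd2, hfix⟩ := split hS hB he hee
      have hsum := Submodule.finrank_add_eq_of_isCompl hec
      have hm1 : ∀ w ∈ LinearMap.range e, g w ∈ LinearMap.range e := by
        rintro _ ⟨x, rfl⟩
        exact ⟨g x, (LinearMap.congr_fun hce.eq x).symm⟩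
      have hm2 : ∀ w ∈ LinearMap.ker e, g w ∈ LinearMap.ker e := fun w hw => by
        rw [LinearMap.mem_ker] at hw ⊢
        have := LinearMap.congr_fun hce.eq w
        rw [Module.End.mul_apply, Module.End.mul_apply, hw, map_zero] at this
        exact this.symm
      have h1 : 1 ≤ finrank F (LinearMap.range e) := by
        by_contra hc
        exact he0 (LinearMap.range_eq_bot.1 (Submodule.finrank_eq_zero.1 (by omega)))
      have h2' : 1 ≤ finrank F (LinearMap.ker e) := by
        by_contra hc
        have hk := Submodule.finrank_eq_zero.1 (show finrank F (LinearMap.ker e) = 0 by omega)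
        refine he1 (LinearMap.ext fun w => ?_)
        rw [Module.End.one_apply]
        refine sub_eq_zero.1 ((Submodule.mem_bot F).1 (hk ▸ ?_))
        rw [LinearMap.mem_ker, map_sub, hfix _ ⟨w, rfl⟩, sub_self]
      obtain ⟨S₁⟩ := ih _ (by omega) (B.restrict (LinearMap.range e)) ⟨fun u w => hS.eq u.1 w.1⟩ hnd1 rfl
        (g.restrict hm1) (fun u w => hg u w)
      obtain ⟨S₂⟩ := ih _ (by omega) (B.restrict (LinearMap.ker e)) ⟨fun u w => hS.eq u.1 w.1⟩ hnd2 rfl
        (g.restrict hm2) (fun u w => hg u w)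
      have hjoin : ∀ M, (g.restrict hm1) ^ M = 1 → (g.restrict hm2) ^ M = 1 → g ^ M = 1 := fun M e1 e2 => by
        refine LinearMap.ext fun w => ?_
        obtain ⟨a, ha, k, hk, rfl⟩ := Submodule.mem_sup.1 (show w ∈ LinearMap.range e ⊔ LinearMap.ker e by
          rw [hec.sup_eq_top]; trivial)
        have ea := congrArg Subtype.val (LinearMap.congr_fun e1 ⟨a, ha⟩)
        have ek := congrArg Subtype.val (LinearMap.congr_fun e2 ⟨k, hk⟩)
        rw [Module.End.pow_restrict] at ea ek
        rw [map_add, map_add]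
        exact congrArg₂ (· + ·) ea ek
      have hres : ∀ (W : Submodule F V) (hW : ∀ w ∈ W, g w ∈ W) (M : ℕ), g ^ M = 1 → (g.restrict hW) ^ M = 1 :=
        fun W hW M hM => LinearMap.ext fun w => Subtype.ext (by
          rw [Module.End.pow_restrict]; exact LinearMap.congr_fun hM w)
      refine ⟨⟨S₁.T ++ S₂.T, S₁.a + S₂.a, S₁.b + S₂.b, max S₁.nb S₂.nb, ?_, ?_, ?_, ?_, ?_,
        fun M hT ha hb hev => ?_, fun x hx hb hL j m hm hj => ?_⟩⟩
      · intro x hx
        rcases List.mem_append.1 hx with h | h
        exacts [S₁.pos x h, S₂.pos x h]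
      · rw [wsum_append]
        have := S₁.dim; have := S₂.dim; omega
      · have := S₁.nb_le; have := S₂.nb_le; omega
      · intro hev hb
        have := S₁.nb_le; have := S₂.nb_le
        rcases Nat.eq_zero_or_pos S₁.b with h0 | h0
        · rw [h0, Nat.zero_add] at hev hb
          have := S₂.nb_lt hev hb; omega
        rcases Nat.eq_zero_or_pos S₂.b with h0' | h0'
        · rw [h0', Nat.add_zero] at hev hb
          have := S₁.nb_lt hev hb; omega
        omega
      · rw [det_of_isCompl hec hm1 hm2, S₁.det, S₂.det, pow_add]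
      · have mono : ∀ {x y : ℕ}, x ≤ y → p ^ Nat.clog p y ∣ M → p ^ Nat.clog p x ∣ M := fun hxy h =>
          (pow_dvd_pow p (Nat.clog_mono_right p hxy)).trans h
        exact hjoin M (S₁.rel M (fun x hx => hT x (List.mem_append_left _ hx)) (mono (Nat.le_add_right _ _) ha)
            (mono (le_max_left _ _) hb) (fun h => hev (by omega)))
          (S₂.rel M (fun x hx => hT x (List.mem_append_right _ hx)) (mono (Nat.le_add_left _ _) ha)
            (mono (le_max_right _ _) hb) (fun h => hev (by omega)))
      · have hplain : ∀ {W : Submodule F V} {hW : ∀ w ∈ W, g w ∈ W} (S : NShape p (g.restrict hW)),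
            S.T = [] → S.b = 0 → finrank F W = S.a ∧ (g.restrict hW) ^ j = 1 := by
          intro W hW S hT0 hb0
          refine ⟨?_, ?_⟩
          · have := S.dim; rw [hT0, hb0] at this; simpa [wsum] using this.symm
          · have e1 : (g.restrict hW) ^ (p ^ Nat.clog p S.a) = 1 := S.rel _ (by simp [hT0]) dvd_rfl
              (by have := S.nb_le; rw [show S.nb = 0 by omega, Nat.clog_zero_right, pow_zero]; exact one_dvd _)
              (fun h => by omega)
            have e2 := pow_gcd_eq_one.2 ⟨e1, hres W hW _ hj⟩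
            refine pow_dvd_eq_one e2 ?_
            exact (Nat.Coprime.pow_left _ (hp.out.coprime_iff_not_dvd.2 hm)).coprime_dvd_left
              (Nat.gcd_dvd_left _ _) |>.dvd_of_dvd_mul_right (Nat.gcd_dvd_right _ _)
        have hb1 : S₁.b = 0 := by omega
        have hb2 : S₂.b = 0 := by omega
        have hjW : ∀ (W : Submodule F V) (hW : ∀ w ∈ W, g w ∈ W), ∃ hW' : ∀ w ∈ W, (g ^ j) w ∈ W,
            (g ^ j).restrict hW' = (g.restrict hW) ^ j := fun W hW =>
          ⟨Module.End.pow_apply_mem_of_forall_mem j hW, (Module.End.pow_restrict j hW).symm⟩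
        obtain ⟨hj1, ej1⟩ := hjW _ hm1
        obtain ⟨hj2, ej2⟩ := hjW _ hm2
        have hk := finrank_ker_split hec hj1 hj2
        rw [ej1, ej2] at hk
        have hone : ∀ W : Submodule F V, finrank F (LinearMap.ker ((1 : Module.End F W) - 1)) = finrank F W :=
          fun W => by rw [sub_self, LinearMap.ker_zero, finrank_top]
        rcases List.append_eq_singleton_iff.1 hx with ⟨hT1, hT2⟩ | ⟨hT1, hT2⟩
        · obtain ⟨e1, e2⟩ := hplain S₁ hT1 hb1
          rcases S₂.pure x hT2 hb2 hL j m hm (hres _ hm2 _ hj) with e | e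
          · exact Or.inl (hjoin j e2 e)
          · right; rw [hk, e2, hone, e1, e]
        · obtain ⟨e1, e2⟩ := hplain S₂ hT2 hb2
          rcases S₁.pure x hT1 hb1 hL j m hm (hres _ hm1 _ hj) with e | e
          · exact Or.inl (hjoin j e e2)
          · right; rw [hk, e2, hone, e1, e]
    -- an indecomposable isometry
    have hgi := pow_isom hg
    have hfree : ∀ j m : ℕ, ¬ p ∣ m → g ^ (j * m) = 1 → g ^ j = 1 ∨ ∀ v, (g ^ j) v = v → v = 0 := by
      intro j m hm hj
      have hmF : (m : F) ≠ 0 := fun h => hm ((CharP.cast_eq_zero_iff F p m).1 h)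
      have hs : (g ^ j) ^ m = 1 := by rw [← pow_mul, hj]
      by_contra hc
      push Not at hc
      obtain ⟨hne, v, hv, hv0⟩ := hc
      refine hex ⟨avgE (g ^ j) m, avgE_idem hs hmF, fun h0 => hv0 ?_, fun h1 => hne ?_,
        commute_avgE (Commute.self_pow g j) m, avgE_adj hS (hgi j) hs hmF⟩
      · rw [← avgE_fix hmF hv, h0]; rfl
      · have := mul_avgE hs
        rwa [h1, mul_one] at this
    obtain ⟨k, o, ho, hko⟩ := exists_period (p := p) hB hg
    set s := g ^ p ^ k with hsdef
    have hso : s ^ o = 1 := by rw [hsdef, ← pow_mul, hko]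
    have hpk : Odd (p ^ k) := hpodd.pow
    by_cases hs1 : s = 1
    · have hn1 : (g - 1) ^ p ^ k = 0 := by rw [sub_one_pow_char', ← hsdef, hs1, sub_self]
      refine ⟨⟨[], N, 0, 0, by simp, by simp [wsum, hV], le_rfl, fun _ h => by omega, ?_,
        fun M _ ha _ _ => pow_dvd_eq_one ?_ ha, fun x hx => absurd hx (by simp)⟩⟩
      · rw [pow_zero]
        exact det_of_pow hB hg hpk (by rw [← hsdef, hs1, map_one])
      · rw [← sub_eq_zero, ← sub_one_pow_char']
        exact pow_eq_zero_of_le (Nat.le_pow_clog hp.out.one_lt N) (hV ▸ pow_finrank_eq_zero hn1)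
    by_cases hm1 : ∃ v, v ≠ 0 ∧ s v = -v
    · obtain ⟨v, hv0, hv⟩ := hm1
      have hs2 : g ^ (p ^ k * 2) = 1 := by
        refine ((hfree (p ^ k * 2) o ho ?_).resolve_right fun h => hv0 (h v ?_))
        · rw [mul_right_comm, pow_mul, hko, one_pow]
        · rw [pow_mul, ← hsdef, pow_two, Module.End.mul_apply, hv, map_neg, hv, neg_neg]
      have hinj : ∀ w, s w = w → w = 0 := (hfree (p ^ k) o ho hko).resolve_left hs1
      have hsm : s = -1 := LinearMap.ext fun w => by
        have h1 : s (s w) = w := by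
          rw [← Module.End.mul_apply, ← pow_two, hsdef, ← pow_mul, hs2]; rfl
        have h3 := hinj (w + s w) (by rw [map_add, h1, add_comm])
        rw [LinearMap.neg_apply, Module.End.one_apply]
        exact eq_neg_of_add_eq_zero_right h3
      have hgn : ∀ u w, B ((-g) u) ((-g) w) = B u w := fun u w => by
        simp [hg]
      have hn1 : (-g - 1) ^ p ^ k = 0 := by
        rw [sub_one_pow_char', hpk.neg_pow, ← hsdef, hsm, neg_neg, sub_self]
      set nb := if Even N then N - 1 else N with hnb
      have hnb0 : (-g - 1) ^ nb = 0 := by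
        rw [hnb]
        split_ifs with hev
        · exact nilp_lt_dim h2 hS hB hgn hV hev hn1
        · exact hV ▸ pow_finrank_eq_zero hn1
      refine ⟨⟨[], 0, N, nb, by simp, by simp [wsum, hV], by rw [hnb]; split_ifs <;> omega,
        fun hev _ => by rw [hnb, if_pos hev]; omega, ?_,
        fun M _ _ hb hev => ?_, fun x hx => absurd hx (by simp)⟩⟩
      · refine det_of_pow hB hg hpk ?_
        rw [← hsdef, hsm, show (-1 : Module.End F V) = (-1 : F) • LinearMap.id from
          (neg_one_smul F (1 : Module.End F V)).symm, LinearMap.det_smul, LinearMap.det_id, mul_one, hV]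
      · have h3 : (-g) ^ p ^ Nat.clog p nb = 1 := by
          rw [← sub_eq_zero, ← sub_one_pow_char']
          exact pow_eq_zero_of_le (Nat.le_pow_clog hp.out.one_lt _) hnb0
        rw [← (hev hn).neg_pow]
        exact pow_dvd_eq_one h3 hb
    -- a torus
    have hinj : ∀ w, s w = w → w = 0 := (hfree (p ^ k) o ho hko).resolve_left hs1
    have hgp : ∀ v, g v = v → ∀ i : ℕ, (g ^ i) v = v := fun v hv i => by
      induction i with
      | zero => rfl
      | succ i ih => rw [pow_succ, Module.End.mul_apply, hv, ih]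
    have hgm : ∀ v, g v = -v → ∀ i : ℕ, (g ^ i) v = (-1 : F) ^ i • v := fun v hv i => by
      induction i with
      | zero => simp
      | succ i ih =>
        rw [pow_succ, Module.End.mul_apply, hv, map_neg, ih, pow_succ, mul_neg_one, neg_smul]
    have hplus : ∀ v, g v = v → v = 0 := fun v hv => hinj v (hgp v hv _)
    have hminus : ∀ v, g v = -v → v = 0 := fun v hv => by
      by_contra hv0
      refine hm1 ⟨v, hv0, ?_⟩
      rw [hsdef, hgm v hv, hpk.neg_one_pow, neg_one_smul]
    have hdet : LinearMap.det g = 1 := CfsgLib.OrderBC.det_eq_one_of_isometry B hB g hg hminus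
    rcases cases (Φ := ofSymm B hS h2) (fun v hv => hB.2 v hv) hg with ⟨e, he, he0, he1, hce, hee⟩ |
        ⟨K', _, _, _, d, L, τ, y, hL, hKc, hdL, hττ, hτF, hτy, -, hnil⟩ |
        ⟨K', _, _, _, d, L, y, δ, hL, hKc, hdL, hy0, -, -, hnil⟩
    · exact absurd ⟨e, he, he0, he1, hce, hee⟩ hex
    · rw [hV] at hdL
      have hd : 0 < d := by rcases Nat.eq_zero_or_pos d with rfl | h' <;> [simp at hdL; exact h'] ; omega
      by_cases hid : τ = RingHom.id K'
      · exfalso
        rw [hid, RingHom.id_apply] at hτy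
        rcases mul_self_eq_one_iff.1 hτy with hy | hy
        · have h1 := hnil 1 1 (by rw [pow_one, map_one, hy])
          rw [map_one, pow_one] at h1
          obtain ⟨v, hv0, hv⟩ := exists_eigen h1
          exact hv0 (hplus v (by rwa [LinearMap.sub_apply, Module.End.one_apply, sub_eq_zero] at hv))
        · have h1 := hnil 1 (-1) (by rw [pow_one, map_neg, map_one, hy])
          rw [map_neg, map_one, pow_one, sub_neg_eq_add] at h1
          obtain ⟨v, hv0, hv⟩ := exists_eigen h1
          exact hv0 (hminus v (eq_neg_of_add_eq_zero_left (by simpa using hv)))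
      · obtain ⟨h, rfl, hτh⟩ := two_cases_field τ hττ (fun c => hτF c) hKc hid
        rw [hτh, ← pow_succ] at hτy
        have h1 := hnil _ 1 (by rw [hτy, map_one])
        rw [map_one] at h1
        exact ⟨nshapeTorus (show 1 ≤ h by omega) hL (by rw [hV, ← hdL, mul_assoc]) true hdet
          (by simpa [torN] using h1) hfree⟩
    · rw [hV] at hdL
      have hd : 0 < d := by rcases Nat.eq_zero_or_pos d with rfl | h' <;> [simp at hdL; exact h'] ; omega
      haveI := Fintype.ofFinite K'
      have hyq : y ^ (Fintype.card F ^ d - 1) = 1 := by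
        rw [← Nat.card_eq_fintype_card (α := F), ← hKc, Nat.card_eq_fintype_card]
        exact FiniteField.pow_card_sub_one_eq_one y hy0
      have h1 := hnil _ 1 (by rw [hyq, map_one]) (by simp [ofSymm])
      rw [map_one] at h1
      exact ⟨nshapeTorus (show 1 ≤ d by omega) hL (by omega) false hdet (by simpa [torN] using h1) hfree⟩

end CfsgLib.SpecNine
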