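import Cfsg.Agent.SpecNine.Unip
import Cfsg.Agent.SpecNine.Shape
import Cfsg.Agent.SpecNine.Forms

/-!
The orders of `V ⋊ Ω₈(q)` occur in `Ω₉(q)`, `q` odd.
-/

set_option autoImplicit false
set_option linter.style.haveILetI false
set_option linter.unusedSectionVars false

namespace CfsgLib.SpecNine

open Module QuadraticMap CfsgLib.Forms CfsgLib.Quad CfsgLib.PrimeGraphBC
open CfsgLib.SpecSpEight (toEnd toEnd_apply toEnd_injective gsum oProd oProd_injective gsum_intertwine gsum_mul
  gsum_mul_sub polar_symm)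
open LinearMap (BilinForm)

universe u v

variable {F : Type u} [Field F] [Fintype F] {p : ℕ} [hp : Fact p.Prime] [CharP F p]

theorem sq_form_nondeg (h2 : (2 : F) ≠ 0) : (polarBilin (QuadraticMap.sq (R := F) (A := F))).Nondegenerate := by
  have h1 : ∀ x : F, (∀ y, polar (QuadraticMap.sq (R := F) (A := F)) x y = 0) → x = 0 := fun x hx => by
    have := hx 1
    simp [polar, QuadraticMap.sq_apply] at this
    exact (mul_eq_zero.1 (show (2 : F) * x = 0 by linear_combination this)).resolve_left h2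
  exact ⟨fun x hx => h1 x hx, fun x hx => h1 x fun y => by rw [polar_comm]; exact hx y⟩

/-- The fixed space of a semisimple element of the commutator subgroup has even codimension. -/
theorem even_ker_avgE (h2 : (2 : F) ≠ 0) {V : Type v} [AddCommGroup V] [Module F V] [FiniteDimensional F V]
    {B : BilinForm F V} (hS : B.IsSymm) (hB : B.Nondegenerate) {s : Module.End F V}
    (hi : ∀ x y, B (s x) (s y) = B x y) {o : ℕ} (hs : s ^ o = 1) (ho : (o : F) ≠ 0)
    (hdet : LinearMap.det s = 1) : Even (finrank F (LinearMap.ker (avgE s o))) := by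
  obtain ⟨hec, -, -, hndK, hfix⟩ := split hS hB (avgE_idem hs ho) (avgE_adj hS hi hs ho)
  have hK : ∀ w ∈ LinearMap.ker (avgE s o), s w ∈ LinearMap.ker (avgE s o) := fun w hw => by
    rw [LinearMap.mem_ker] at hw ⊢
    rw [← Module.End.mul_apply, ← (commute_avgE (Commute.refl s) o).eq, Module.End.mul_apply, hw, map_zero]
  have hR : ∀ w ∈ LinearMap.range (avgE s o), s w ∈ LinearMap.range (avgE s o) := fun w hw => by
    obtain ⟨x, rfl⟩ := hw
    rw [apply_avgE hs]
    exact ⟨x, rfl⟩
  have hsR : s.restrict hR = 1 := LinearMap.ext fun w => Subtype.ext (by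
    obtain ⟨x, hx⟩ := w.2
    show s w.1 = w.1
    rw [← hx, apply_avgE hs])
  have h1 := det_of_isCompl hec hR hK
  rw [hdet, hsR, map_one, one_mul] at h1
  set A := s.restrict hK with hA
  by_contra hev
  have h3 : LinearMap.det ((-1 : F) • A) = 1 := by
    refine CfsgLib.OrderBC.det_eq_one_of_isometry (B.restrict _) hndK _ (fun x y => ?_) fun x hx => ?_
    · show B (((-1 : F) • A) x).1 (((-1 : F) • A) y).1 = B x.1 y.1
      simp [hA, hi]
    · have hx' : s x.1 = x.1 := by
        have := congrArg Subtype.val hx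
        simpa [hA] using this
      exact Subtype.ext ((avgE_fix ho hx').symm.trans x.2)
  rw [LinearMap.det_smul, (Nat.not_even_iff_odd.1 hev).neg_one_pow, ← h1, mul_one] at h3
  exact h2 (by linear_combination -h3)

/-- An element of `Ω₉` for a pair `(v, g)`. -/
theorem embed (h2 : (2 : F) ≠ 0) {V : Type v} [AddCommGroup V] [Module F V] [FiniteDimensional F V]
    {Q : QuadraticForm F V} (hQ : (polarBilin Q).Nondegenerate) (hV : finrank F V = 8) {g : oGroup Q}
    (hg : g ∈ commutator (oGroup Q)) (v : V) :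
    ∃ x ∈ commutator (oGroup (oddQ (F := F) 4)), g ^ orderOf x = 1 ∧ gsum (toEnd Q g) (orderOf x) v = 0 := by
  classical
  obtain ⟨p, hp'⟩ := CharP.exists F
  haveI hp : Fact p.Prime := ⟨CharP.char_is_prime F p⟩
  haveI := finite_oGroup Q
  have hp2 : p ≠ 2 := fun e => h2 (by subst e; exact_mod_cast CharP.cast_eq_zero F 2)
  set Q9 := Q.prod (QuadraticMap.sq (R := F) (A := F)) with hQ9
  have hn9 : (polarBilin Q9).Nondegenerate := prod_nondeg' hQ (sq_form_nondeg h2)
  have hd9 : finrank F (V × F) = 9 := by rw [Module.finrank_prod, hV, Module.finrank_self]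
  obtain ⟨E⟩ := odd_transport h2 (polar_symm Q9) hn9 (n := 4) (by omega)
  let E9 : oGroup Q9 ≃* oGroup (oddQ (F := F) 4) := (MulEquiv.subgroupCongr (oGroup_eq_bIso h2 Q9)).trans E
  let ι : oGroup Q →* oGroup Q9 :=
    (oProd Q (QuadraticMap.sq (R := F) (A := F))).comp (MonoidHom.inl _ _)
  have hι : Function.Injective ι := (oProd_injective _ _).comp fun a b e => congrArg Prod.fst e
  have hιapp : ∀ (a : oGroup Q) (x : V × F), (ι a).1 x = (a.1 x.1, x.2) := fun a x => rfl
  suffices h : ∃ x ∈ commutator (oGroup Q9), g ^ orderOf x = 1 ∧ gsum (toEnd Q g) (orderOf x) v = 0 by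
    obtain ⟨x, hx, hd⟩ := h
    exact ⟨E9 x, map_mem_commutator E9.toMonoidHom hx, by rwa [MulEquiv.orderOf_eq]⟩
  by_cases hw0 : gsum (toEnd Q g) (orderOf g) v = 0
  · refine ⟨ι g, map_mem_commutator ι hg, ?_⟩
    rw [orderOf_injective ι hι g]
    exact ⟨pow_orderOf_eq_one g, hw0⟩
  obtain ⟨a, o, ho, hN⟩ := Nat.exists_eq_pow_mul_and_not_dvd (orderOf_pos g).ne' p hp.out.ne_one
  have hoF : (o : F) ≠ 0 := fun h => ho ((CharP.cast_eq_zero_iff F p o).1 h)
  set G := toEnd Q g
  have hG : G ^ (p ^ a * o) = 1 := by rw [← hN, ← map_pow, pow_orderOf_eq_one, map_one]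
  -- the translation in the fixed space of the semisimple part
  set e := avgE (G ^ p ^ a) o with he
  have hso : (G ^ p ^ a) ^ o = 1 := by rw [← pow_mul, hG]
  have hcG : Commute G e := commute_avgE (Commute.self_pow G _) o
  have hX : ∀ w ∈ LinearMap.range e, G w ∈ LinearMap.range e := by
    rintro _ ⟨x, rfl⟩
    exact ⟨G x, (LinearMap.congr_fun hcG.eq x).symm⟩
  set A := G.restrict hX
  have hA1 : A ^ p ^ a = 1 := LinearMap.ext fun w => Subtype.ext (by
    rw [Module.End.pow_restrict]
    obtain ⟨x, hx⟩ := w.2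
    show (G ^ p ^ a) w.1 = w.1
    rw [← hx, he, apply_avgE hso])
  have hdimX : p ^ a ≤ finrank F (LinearMap.range e) := by
    by_contra hlt
    push Not at hlt
    refine hw0 ?_
    set w0 := gsum G (orderOf g) v with hw0def
    have hfix : G w0 = w0 := by
      have h := LinearMap.congr_fun (gsum_mul_sub G (orderOf g)) v
      rwa [hN, hG, sub_self, Module.End.mul_apply, LinearMap.zero_apply, LinearMap.sub_apply,
        Module.End.one_apply, sub_eq_zero, ← hN] at h
    have hfix' : ∀ i : ℕ, (G ^ i) w0 = w0 := fun i => by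
      induction i with
      | zero => rfl
      | succ i ih => rw [pow_succ, Module.End.mul_apply, hfix, ih]
    have hcs : Commute (gsum G (orderOf g)) e := Commute.sum_left _ _ _ fun i _ => hcG.pow_left i
    have h1 : gsum G (orderOf g) (e v) = w0 := by
      rw [← Module.End.mul_apply, hcs.eq, Module.End.mul_apply, ← hw0def, he, avgE_fix hoF (hfix' _)]
    have h3 := (gsum_intertwine (LinearMap.range e).subtype A G (fun w => rfl) (orderOf g) ⟨e v, v, rfl⟩).2
    have hz : (A - 1) ^ (p ^ a - 1) = 0 := by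
      have h4 : (A - 1) ^ p ^ a = 0 := by rw [sub_one_pow_char', hA1, sub_self]
      exact pow_eq_zero_of_le (by omega) (pow_finrank_eq_zero h4)
    rw [hN, gsum_mul A hA1, gsum_char_pow, hz, smul_zero, LinearMap.zero_apply, map_zero, ← hN] at h3
    rw [← h1]
    exact h3
  -- the semisimple part in dimension nine
  set s := ι (g ^ p ^ a) with hs
  have hsmem : s ∈ commutator (oGroup Q9) := map_mem_commutator ι (Subgroup.pow_mem _ hg _)
  have hso' : orderOf s = o := by
    rw [hs, orderOf_injective ι hι, orderOf_pow_of_dvd (Nat.pow_pos hp.out.pos).ne' ⟨o, hN⟩, hN,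
      Nat.mul_div_cancel_left _ (Nat.pow_pos hp.out.pos)]
  set S := toEnd Q9 s with hS
  have hS1 : S ^ o = 1 := by rw [hS, ← map_pow, ← hso', pow_orderOf_eq_one, map_one]
  have hSi : ∀ x y, polarBilin Q9 (S x) (S y) = polarBilin Q9 x y := fun x y => by
    rw [hS, toEnd_apply, toEnd_apply, polarBilin_apply_apply, polarBilin_apply_apply, polar_oGroup]
  have hSdet : LinearMap.det S = 1 := by
    have h3 : detO Q9 s = 1 := Abelianization.commutator_subset_ker (detO Q9) hsmem
    have h4 := congrArg Units.val h3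
    rwa [detO_val, Units.val_one] at h4
  have hidem := avgE_idem hS1 hoF
  have hadj := avgE_adj (polar_symm Q9) hSi hS1 hoF
  obtain ⟨hec, -, hnd, -, hfixr⟩ := split (polar_symm Q9) hn9 hidem hadj
  set e9 := avgE S o with he9
  obtain ⟨j, hj⟩ := even_ker_avgE h2 (polar_symm Q9) hn9 hSi hS1 hoF hSdet
  rw [← he9] at hj
  have hsum := Submodule.finrank_add_eq_of_isCompl hec
  rw [hd9, hj] at hsum
  obtain ⟨k, hk⟩ : ∃ k, finrank F (LinearMap.range e9) = 2 * k + 1 := ⟨4 - j, by omega⟩
  have hge : finrank F (LinearMap.range e) + 1 ≤ 2 * k + 1 := by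
    rw [← hk]
    let f : ↥(LinearMap.range e) × F →ₗ[F] ↥(LinearMap.range e9) :=
      LinearMap.codRestrict _ ((LinearMap.range e).subtype.prodMap LinearMap.id) fun c => by
        refine ⟨(c.1.1, c.2), avgE_fix hoF ?_⟩
        obtain ⟨x, hx⟩ := c.1.2
        show ((g ^ p ^ a).1 c.1.1, c.2) = (c.1.1, c.2)
        refine Prod.ext ?_ rfl
        show (g ^ p ^ a).1 c.1.1 = c.1.1
        rw [← toEnd_apply, map_pow, ← hx, he, apply_avgE hso]
    have hf : Function.Injective f := fun c d h => by
      have h' : ((c.1.1, c.2) : V × F) = (d.1.1, d.2) := congrArg Subtype.val h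
      exact Prod.ext (Subtype.ext (Prod.ext_iff.1 h').1) (Prod.ext_iff.1 h').2
    have := LinearMap.finrank_le_finrank_of_injective hf
    rwa [Module.finrank_prod, Module.finrank_self] at this
  obtain ⟨T⟩ := odd_transport h2 (B := LinearMap.BilinForm.restrict (polarBilin Q9) (LinearMap.range e9))
    ⟨fun x y => (polar_symm Q9).eq x.1 y.1⟩ hnd hk
  obtain ⟨u, hu0, hu1⟩ := exists_regular (F := F) h2 k
  have hub : u ^ p ^ Nat.clog p (2 * k + 1) = 1 := toEnd_injective _ (by
    rw [map_pow, map_one, ← sub_eq_zero, ← sub_one_pow_char']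
    exact pow_eq_zero_of_le (Nat.le_pow_clog hp.out.one_lt _) hu0)
  obtain ⟨i, -, hi⟩ := (Nat.dvd_prime_pow hp.out).1 (orderOf_dvd_of_pow_eq_one hub)
  have hia : a < i := by
    by_contra hc
    push Not at hc
    refine hu1 (pow_eq_zero_of_le (show p ^ i ≤ 2 * k by have := Nat.pow_le_pow_right hp.out.pos hc; omega) ?_)
    rw [sub_one_pow_char', ← hi, ← map_pow, pow_orderOf_eq_one, map_one, sub_self]
  let U : oGroup Q9 := (MulEquiv.subgroupCongr (oGroup_eq_bIso h2 Q9)).symm
    (extendHom (polar_symm Q9) hidem hadj (T.symm u))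
  have hUo : orderOf U = p ^ i := by
    rw [MulEquiv.orderOf_eq, orderOf_injective _ (extendHom_injective _ _ _), MulEquiv.orderOf_eq, hi]
  have hUapp : ∀ x, U.1 x = ((T.symm u).1 (e9.rangeRestrict x) : V × F) + (x - e9 x) := fun x => rfl
  have hUmem : U ∈ commutator (oGroup Q9) := odd_mem_commutator h2 hn9 (by omega)
    (hUo ▸ (hp.out.odd_of_ne_two hp2).pow)
  have hcomm : Commute s U := by
    refine Subtype.ext (LinearEquiv.ext fun x => ?_)
    show s.1 (U.1 x) = U.1 (s.1 x)
    have hes : e9 (s.1 x) = e9 x := by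
      show (e9 * S) x = e9 x
      rw [he9, ← (commute_avgE (Commute.refl S) o).eq, mul_avgE hS1]
    have hr : e9.rangeRestrict (s.1 x) = e9.rangeRestrict x := Subtype.ext hes
    have hfx : ∀ y ∈ LinearMap.range e9, s.1 y = y := by
      rintro _ ⟨z, rfl⟩; exact apply_avgE hS1 z
    rw [hUapp, hUapp, hr, hes, map_add, map_sub, hfx _ ((T.symm u).1 (e9.rangeRestrict x)).2,
      hfx (e9 x) ⟨x, rfl⟩]
  suffices hd : p * orderOf g ∣ orderOf (s * U) by
    obtain ⟨c, hc⟩ := hd
    refine ⟨s * U, mul_mem hsmem hUmem, ?_⟩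
    rw [hc, mul_comm p, mul_assoc]
    refine ⟨by rw [pow_mul, pow_orderOf_eq_one, one_pow], ?_⟩
    rw [gsum_mul _ (by rw [← map_pow, pow_orderOf_eq_one, map_one]), LinearMap.smul_apply,
      ← Nat.cast_smul_eq_nsmul F, Nat.cast_mul, CharP.cast_eq_zero, zero_mul, zero_smul]
  have hcop : Nat.Coprime o (p ^ i) := ((hp.out.coprime_iff_not_dvd.2 ho).pow_left i).symm
  rw [hcomm.orderOf_mul_eq_mul_orderOf_of_coprime (by rw [hso', hUo]; exact hcop), hso', hUo, hN,
    show p * (p ^ a * o) = o * p ^ (a + 1) by ring]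
  exact mul_dvd_mul_left o (pow_dvd_pow p hia)

end CfsgLib.SpecNine
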