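import Cfsg.Agent.SpecNine.Forms
import Cfsg.Agent.OrderBC.Sphere

/-!
Full tori of both types in odd characteristic, and their spinor norm.
-/

set_option autoImplicit false
set_option linter.style.haveILetI false
set_option linter.unusedSectionVars false

namespace CfsgLib.SpecNine

open Module QuadraticMap CfsgLib.Forms CfsgLib.Quad CfsgLib.Geo.OCounts
open CfsgLib.SpecSpEight (toEnd toEnd_apply toEnd_injective)

universe u v

variable {F : Type u} [Field F] [Fintype F] {p : ℕ} [hp : Fact p.Prime] [CharP F p]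

/-- A regular isometry generating a full torus of degree `h` and sign `ε`. -/
def Tor (F : Type u) [Field F] [Fintype F] (h : ℕ) (ε : ℤ) (N : ℕ) : Prop :=
  ∃ (V : Type u) (_ : AddCommGroup V) (_ : Module F V) (_ : FiniteDimensional F V) (R : QuadraticForm F V),
    (polarBilin R).Nondegenerate ∧ finrank F V = 2 * h ∧ EType (⇑R) h ε ∧
    ∃ t : oGroup R, orderOf t = N ∧ LinearMap.det (toEnd R t) = 1 ∧
      ∀ v : V, v ≠ 0 → ∀ i : ℕ, (t ^ i).1 v = v → N ∣ i

theorem det_of_free (h2 : (2 : F) ≠ 0) {V : Type v} [AddCommGroup V] [Module F V] [FiniteDimensional F V]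
    {R : QuadraticForm F V} (hR : (polarBilin R).Nondegenerate) {h : ℕ} (hV : finrank F V = 2 * h) (t : oGroup R)
    {N : ℕ} (hN : orderOf t = N) (hfree : ∀ v : V, v ≠ 0 → ∀ i : ℕ, (t ^ i).1 v = v → N ∣ i) :
    LinearMap.det (toEnd R t) = 1 := by
  have hi : ∀ x y, polarBilin R (toEnd R t x) (toEnd R t y) = polarBilin R x y := fun x y => by
    rw [toEnd_apply, toEnd_apply, polarBilin_apply_apply, polarBilin_apply_apply, polar_oGroup]
  by_cases h1 : ∃ v, v ≠ 0 ∧ t.1 v = -v
  · obtain ⟨v, hv0, hv⟩ := h1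
    have hd : N ∣ 2 := hfree v hv0 2 (by
      rw [pow_two, Subgroup.coe_mul, LinearEquiv.mul_apply, hv, map_neg, hv, neg_neg])
    have ht2 : ∀ w, t.1 (t.1 w) = w := fun w => by
      have := orderOf_dvd_iff_pow_eq_one.1 (hN ▸ hd)
      have h3 := congrArg (fun a : oGroup R => a.1 w) this
      simp only [pow_two, Subgroup.coe_mul, LinearEquiv.mul_apply, OneMemClass.coe_one] at h3
      exact h3
    have hN1 : ¬ N ∣ 1 := fun hd1 => hv0 (by
      have := orderOf_dvd_iff_pow_eq_one.1 (hN ▸ hd1)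
      rw [pow_one] at this
      rw [this] at hv
      have h3 : (2 : F) • v = 0 := by
        rw [two_smul]; nth_rewrite 1 [show v = -v from hv]; exact neg_add_cancel _
      exact (smul_eq_zero.1 h3).resolve_left h2)
    have hneg : toEnd R t = (-1 : F) • LinearMap.id := LinearMap.ext fun w => by
      have h3 : t.1 (w + t.1 w) = w + t.1 w := by rw [map_add, ht2, add_comm]
      have h4 : w + t.1 w = 0 := by
        by_contra hne
        exact hN1 (hfree _ hne 1 (by rw [pow_one]; exact h3))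
      rw [toEnd_apply, LinearMap.smul_apply, LinearMap.id_apply, neg_one_smul]
      exact eq_neg_of_add_eq_zero_right h4
    rw [hneg, LinearMap.det_smul, LinearMap.det_id, mul_one, hV, (even_two_mul h).neg_one_pow]
  · push Not at h1
    exact CfsgLib.OrderBC.det_eq_one_of_isometry _ hR _ hi fun x hx => by_contra fun hne => h1 x hne hx

theorem tor_of {V : Type v} [AddCommGroup V] [Module F V] [FiniteDimensional F V] {R : QuadraticForm F V}
    (hR : (polarBilin R).Nondegenerate) {h : ℕ} (hV : finrank F V = 2 * h) {ε : ℤ} (hE : EType (⇑R) h ε)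
    (t : oGroup R) {N : ℕ} (hN : orderOf t = N) (hd : LinearMap.det (toEnd R t) = 1)
    (hfree : ∀ v : V, v ≠ 0 → ∀ i : ℕ, (t ^ i).1 v = v → N ∣ i) : Tor F h ε N := by
  let φ := (Module.finBasisOfFinrankEq F V hV).equivFun
  let R' : QuadraticForm F (Fin (2 * h) → F) := R.comp φ.symm.toLinearMap
  have hφ : ∀ v, R' (φ v) = R v := fun v => by
    show R (φ.symm (φ v)) = R v
    rw [φ.symm_apply_apply]
  refine ⟨Fin (2 * h) → F, inferInstance, inferInstance, inferInstance, R', nondeg_of_equiv φ.symm (fun _ => rfl) hR,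
    by simp, hE.congr φ.toEquiv hφ, oGroupCongr φ hφ t, by rw [MulEquiv.orderOf_eq, hN], ?_, fun w hw i hi => ?_⟩
  · rw [CfsgLib.SpecSpEight.oGroupCongr_toEnd, ← hd]
    exact LinearMap.det_conj (toEnd R t) φ
  · rw [← map_pow] at hi
    refine hfree (φ.symm w) (fun e => hw (φ.symm.map_eq_zero_iff.1 e)) i ?_
    have h3 := congrArg φ.symm hi
    rw [show (oGroupCongr φ hφ (t ^ i)).1 w = φ ((t ^ i).1 (φ.symm w)) from rfl, φ.symm_apply_apply] at h3
    exact h3

theorem card_sphere_of_etype {V : Type v} {R : V → F} {h : ℕ} (hh : 1 ≤ h) {ε : ℤ} (hE : EType R h ε) {c : F}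
    (hc : c ≠ 0) : (Nat.card {v // R v = c} : ℤ) = (Nat.card F : ℤ) ^ (h - 1) * ((Nat.card F : ℤ) ^ h - ε) := by
  have hq : (Nat.card F : ℤ) ≠ 0 := by have := one_lt_card (F := F); omega
  refine mul_left_cancel₀ hq ?_
  rw [hE.1 c hc, ← mul_assoc, ← pow_succ', Nat.sub_add_cancel hh, two_mul, pow_add]
  ring

/-- The minus torus. -/
theorem tor_minus (h2 : (2 : F) ≠ 0) (h : ℕ) (hh : 1 ≤ h) : Tor F h (-1) (Fintype.card F ^ h + 1) := by
  classical
  haveI : NeZero (2 * h) := ⟨by omega⟩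
  obtain ⟨p, hp'⟩ := CharP.exists F
  haveI : Fact p.Prime := ⟨CharP.char_is_prime F p⟩
  let L := FiniteField.Extension F p (2 * h)
  haveI := Fintype.ofFinite L
  have hL : finrank F L = 2 * h := FiniteField.finrank_extension F p (2 * h)
  set q := Fintype.card F with hqdef
  have hLc : Fintype.card L = q ^ (2 * h) := by
    rw [← Nat.card_eq_fintype_card, hqdef, ← Nat.card_eq_fintype_card]
    exact FiniteField.natCard_extension F p (2 * h)
  have hq3 : 3 ≤ q := by
    have h1 : 1 < q := Fintype.one_lt_card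
    have h3 := odd_card_of_two_ne (F := F) h2
    rw [Nat.card_eq_fintype_card, ← hqdef] at h3
    omega
  let σ : L ≃ₐ[F] L := FiniteField.Extension.frob F p (2 * h) ^ h
  have hσ : ∀ x : L, σ x = x ^ (q ^ h) := fun x => by
    rw [hqdef, ← Nat.card_eq_fintype_card]
    exact FiniteField.Extension.frob_iterate_apply F p (2 * h) h
  have hσσ : ∀ x : L, σ (σ x) = x := fun x => by
    rw [hσ, hσ, ← pow_mul, ← pow_add, ← two_mul, ← hLc, FiniteField.pow_card]
  obtain ⟨g, hg⟩ := IsCyclic.exists_generator (α := Lˣ)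
  have hgo : orderOf g = (q ^ h + 1) * (q ^ h - 1) := by
    rw [orderOf_eq_card_of_forall_mem_zpowers hg, Nat.card_units, Nat.card_eq_fintype_card, hLc,
      ← Nat.sq_sub_sq, ← pow_mul, mul_comm h 2, one_pow]
  have hqh : 3 ≤ q ^ h := hq3.trans (Nat.le_self_pow (by omega) q)
  let ζ := g ^ (q ^ h - 1)
  have hζ : orderOf ζ = q ^ h + 1 := by
    rw [orderOf_pow' _ (by omega), hgo, Nat.gcd_mul_left_left, Nat.mul_div_cancel _ (by omega)]
  let Q : QuadraticForm F L := LinearMap.BilinMap.toQuadraticMap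
    (((LinearMap.mul F L).compl₂ σ.toLinearMap).compr₂ (Algebra.trace F L))
  have hQ : ∀ x : L, Q x = Algebra.trace F L (x * σ x) := fun x => rfl
  have hpolar : ∀ x y : L, polar Q x y = 2 * Algebra.trace F L (x * σ y) := fun x y => by
    have e : Algebra.trace F L (y * σ x) = Algebra.trace F L (x * σ y) := by
      rw [← Algebra.trace_eq_of_algEquiv σ (y * σ x), map_mul σ, hσσ, mul_comm (σ y) x]
    rw [polar, hQ, hQ, hQ, map_add σ, show (x + y) * (σ x + σ y) =
      x * σ x + y * σ y + (x * σ y + y * σ x) by ring, map_add, map_add, map_add, e]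
    ring
  have hnd : (polarBilin Q).Nondegenerate := by
    have h1 : ∀ x : L, (∀ y, polar Q x y = 0) → x = 0 := fun x hx =>
      (traceForm_nondegenerate F L).1 x fun y => by
        have := hx (σ y)
        rw [hpolar, hσσ] at this
        rw [Algebra.traceForm_apply]
        exact (mul_eq_zero.1 this).resolve_left h2
    exact ⟨fun x hx => h1 x hx, fun x hx => h1 x fun y => by rw [polar_comm]; exact hx y⟩
  let T : L ≃ₗ[F] L := LinearEquiv.ofLinearMap (LinearMap.mulLeft F (ζ : L)) (LinearMap.mulLeft F ((ζ⁻¹ : Lˣ) : L))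
    (LinearMap.ext fun x => by simp [← mul_assoc]) (LinearMap.ext fun x => by simp [← mul_assoc])
  have hT : T ∈ oGroup Q := fun x => by
    show Q ((ζ : L) * x) = Q x
    rw [hQ, hQ, map_mul σ, hσ (ζ : L), show (ζ : L) * x * ((ζ : L) ^ q ^ h * σ x) =
      (ζ : L) ^ (q ^ h + 1) * (x * σ x) by ring, ← Units.val_pow_eq_pow_val,
      orderOf_dvd_iff_pow_eq_one.1 (dvd_of_eq hζ), Units.val_one, one_mul]
  let t : oGroup Q := ⟨T, hT⟩
  have hpow : ∀ (i : ℕ) (x : L), (t ^ i).1 x = (ζ : L) ^ i * x := by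
    intro i
    induction i with
    | zero => intro x; simp
    | succ i ih =>
      intro x
      rw [pow_succ, pow_succ, Subgroup.coe_mul, LinearEquiv.mul_apply, ih, mul_assoc]
      rfl
  have hti : ∀ i : ℕ, t ^ i = 1 ↔ ζ ^ i = 1 := fun i => by
    refine ⟨fun e => Units.ext ?_, fun e => Subtype.ext (LinearEquiv.ext fun x => ?_)⟩
    · have := hpow i 1
      rw [e, mul_one] at this
      rw [Units.val_pow_eq_pow_val, ← this]
      rfl
    · rw [hpow, ← Units.val_pow_eq_pow_val, e, Units.val_one, one_mul]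
      rfl
  have hto : orderOf t = q ^ h + 1 := hζ ▸ orderOf_eq_orderOf_iff.2 hti
  have hfree : ∀ v : L, v ≠ 0 → ∀ i : ℕ, (t ^ i).1 v = v → q ^ h + 1 ∣ i := fun v hv0 i hv => by
    rw [hpow] at hv
    rw [← hto]
    refine orderOf_dvd_of_pow_eq_one ((hti i).2 (Units.ext ?_))
    rw [Units.val_pow_eq_pow_val, Units.val_one]
    exact mul_right_cancel₀ hv0 (hv.trans (one_mul v).symm)
  refine tor_of hnd hL ?_ t hto (det_of_free h2 hnd hL t hto hfree) hfree
  obtain ⟨ε, hε, hE⟩ := exists_etype hnd hL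
  rcases hε with rfl | rfl
  swap
  · exact hE
  exfalso
  have hc := card_sphere_of_etype hh hE (one_ne_zero : (1 : F) ≠ 0)
  have hd := CfsgLib.OrderBC.dvd_sphere (g := t) (m := q ^ h + 1) (by rw [← hto, pow_orderOf_eq_one])
    hfree (by omega) (1 : F)
  rw [Nat.card_congr (Equiv.subtypeEquivRight (q := fun v : L => Q v = 1) fun v =>
    and_iff_left_of_imp (by rintro e rfl; exact one_ne_zero (by rw [← e, QuadraticMap.map_zero] : (1 : F) = 0)))] at hd
  have hd' := Int.natCast_dvd_natCast.2 hd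
  rw [hc, Nat.card_eq_fintype_card, ← hqdef] at hd'
  push_cast at hd'
  have hcop : Nat.Coprime (q ^ h + 1) (q ^ (h - 1)) := by
    refine Nat.Coprime.pow_right _ ?_
    obtain ⟨h', rfl⟩ := Nat.exists_eq_add_of_le' hh
    rw [pow_succ, Nat.coprime_comm, mul_comm, Nat.coprime_mul_left_add_right]
    exact Nat.coprime_one_right q
  have h3 : ((q : ℤ) ^ h + 1) ∣ ((q : ℤ) ^ h - 1) :=
    Int.dvd_of_dvd_mul_right_of_gcd_one hd' (by
      have := hcop
      rw [← Int.natCast_pow, show ((q ^ h : ℕ) : ℤ) + 1 = ((q ^ h + 1 : ℕ) : ℤ) by push_cast; ring,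
        ← Int.natCast_pow, Int.gcd_natCast_natCast]
      exact this)
  have h4 : ((q : ℤ) ^ h + 1) ∣ 2 := by
    have := dvd_sub (dvd_refl ((q : ℤ) ^ h + 1)) h3
    rwa [show (q : ℤ) ^ h + 1 - ((q : ℤ) ^ h - 1) = 2 by ring] at this
  have := Int.le_of_dvd two_pos h4
  have : (3 : ℤ) ≤ (q : ℤ) ^ h := by exact_mod_cast hqh
  omega

/-- The plus torus. -/
theorem tor_plus (h2 : (2 : F) ≠ 0) (h : ℕ) (hh : 1 ≤ h) : Tor F h 1 (Fintype.card F ^ h - 1) := by
  classical
  haveI : NeZero h := ⟨by omega⟩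
  obtain ⟨p, hp'⟩ := CharP.exists F
  haveI : Fact p.Prime := ⟨CharP.char_is_prime F p⟩
  let K := FiniteField.Extension F p h
  haveI := Fintype.ofFinite K
  have hK : finrank F K = h := FiniteField.finrank_extension F p h
  set q := Fintype.card F with hqdef
  obtain ⟨g, hg⟩ := IsCyclic.exists_generator (α := Kˣ)
  have hgo : orderOf g = q ^ h - 1 := by
    rw [orderOf_eq_card_of_forall_mem_zpowers hg, Nat.card_units, hqdef, ← Nat.card_eq_fintype_card,
      FiniteField.natCard_extension]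
  let Q : QuadraticForm F (K × K) := LinearMap.BilinMap.toQuadraticMap
    (((LinearMap.mul F K).compl₁₂ (LinearMap.fst F K K) (LinearMap.snd F K K)).compr₂ (Algebra.trace F K))
  have hQ : ∀ p : K × K, Q p = Algebra.trace F K (p.1 * p.2) := fun p => rfl
  have hpolar : ∀ x y : K × K, polar Q x y = Algebra.trace F K (x.1 * y.2) + Algebra.trace F K (y.1 * x.2) :=
    fun x y => by
      rw [polar, hQ, hQ, hQ, Prod.fst_add, Prod.snd_add, show (x.1 + y.1) * (x.2 + y.2) =
        x.1 * x.2 + y.1 * y.2 + (x.1 * y.2 + y.1 * x.2) by ring, map_add, map_add, map_add]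
      ring
  have hnd : (polarBilin Q).Nondegenerate := by
    have h1 : ∀ x : K × K, (∀ y, polar Q x y = 0) → x = 0 := fun x hx => Prod.ext
      ((traceForm_nondegenerate F K).1 _ fun y => by
        have := hx (0, y); rw [hpolar] at this; simpa [Algebra.traceForm_apply] using this)
      ((traceForm_nondegenerate F K).1 _ fun y => by
        have := hx (y, 0); rw [hpolar] at this
        simpa [Algebra.traceForm_apply, mul_comm y] using this)
    exact ⟨fun x hx => h1 x hx, fun x hx => h1 x fun y => by rw [polar_comm]; exact hx y⟩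
  let T : (K × K) ≃ₗ[F] (K × K) :=
    LinearEquiv.ofLinearMap ((LinearMap.mulLeft F (g : K)).prodMap (LinearMap.mulLeft F ((g⁻¹ : Kˣ) : K)))
      ((LinearMap.mulLeft F ((g⁻¹ : Kˣ) : K)).prodMap (LinearMap.mulLeft F (g : K)))
      (LinearMap.ext fun x => by ext <;> simp [← mul_assoc])
      (LinearMap.ext fun x => by ext <;> simp [← mul_assoc])
  have hT : T ∈ oGroup Q := fun x => by
    show Q ((g : K) * x.1, ((g⁻¹ : Kˣ) : K) * x.2) = Q x
    rw [hQ, hQ]
    show Algebra.trace F K ((g : K) * x.1 * (((g⁻¹ : Kˣ) : K) * x.2)) = _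
    rw [mul_mul_mul_comm, ← Units.val_mul, mul_inv_cancel, Units.val_one, one_mul]
  let t : oGroup Q := ⟨T, hT⟩
  have hpow : ∀ (i : ℕ) (x : K × K),
      (t ^ i).1 x = ((g : K) ^ i * x.1, ((g⁻¹ : Kˣ) : K) ^ i * x.2) := by
    intro i
    induction i with
    | zero => intro x; simp
    | succ i ih =>
      intro x
      rw [pow_succ, pow_succ, pow_succ, Subgroup.coe_mul, LinearEquiv.mul_apply, ih, mul_assoc, mul_assoc]
      rfl
  have hti : ∀ i : ℕ, t ^ i = 1 ↔ g ^ i = 1 := fun i => by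
    refine ⟨fun e => Units.ext ?_, fun e => Subtype.ext (LinearEquiv.ext fun x => ?_)⟩
    · have := congrArg Prod.fst (hpow i (1, 0))
      rw [e] at this
      simpa [Units.val_pow_eq_pow_val] using this.symm
    · rw [hpow, ← Units.val_pow_eq_pow_val, ← Units.val_pow_eq_pow_val, inv_pow, e]
      simp
  have hto : orderOf t = q ^ h - 1 := hgo ▸ orderOf_eq_orderOf_iff.2 hti
  have hfree : ∀ v : K × K, v ≠ 0 → ∀ i : ℕ, (t ^ i).1 v = v → q ^ h - 1 ∣ i := fun v hv0 i hv => by
    rw [hpow] at hv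
    rw [← hgo]
    refine orderOf_dvd_of_pow_eq_one ?_
    by_cases h1 : v.1 = 0
    · have h3 : v.2 ≠ 0 := fun e => hv0 (Prod.ext h1 e)
      have h4 : g⁻¹ ^ i = 1 := Units.ext (by
        rw [Units.val_pow_eq_pow_val, Units.val_one]
        exact mul_right_cancel₀ h3 ((congrArg Prod.snd hv).trans (one_mul _).symm))
      rwa [inv_pow, inv_eq_one] at h4
    · refine Units.ext ?_
      rw [Units.val_pow_eq_pow_val, Units.val_one]
      exact mul_right_cancel₀ h1 ((congrArg Prod.fst hv).trans (one_mul _).symm)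
  have hdim : finrank F (K × K) = 2 * h := by rw [Module.finrank_prod, hK]; ring
  refine tor_of hnd hdim ?_ t hto (det_of_free h2 hnd hdim t hto hfree) hfree
  rcases CfsgLib.QuadStd.classify_even hnd hdim with ⟨φ, hφ⟩ | ⟨ζ, φ, hk, hζ, hφ⟩
  · exact (etype_plus h).congr φ.symm.toEquiv fun v => by
      show Q (φ.symm v) = _; rw [hφ, φ.apply_symm_apply]
  · exfalso
    have h3 := CfsgLib.ParityRank.minus_no_half (CfsgLib.QuadStd.plane_aniso hζ)
      (LinearMap.range (φ.toLinearMap.comp (LinearMap.inl F K K))) (by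
        rintro _ ⟨x, rfl⟩
        show minusQ (h - 1) 1 ζ (φ (x, 0)) = 0
        rw [← hφ, hQ, mul_zero, map_zero])
    have hinj : Function.Injective (φ.toLinearMap.comp (LinearMap.inl F K K)) := fun x y e =>
      congrArg Prod.fst (φ.injective e)
    rw [LinearMap.finrank_range_of_inj hinj, hK] at h3
    omega

/-- A torus generator inside a larger space is not in the kernel of the spinor norm. -/
theorem theta_tor (h2 : (2 : F) ≠ 0) {V : Type v} [AddCommGroup V] [Module F V] [FiniteDimensional F V]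
    {Q : QuadraticForm F V} (hQ : (polarBilin Q).Nondegenerate) {θ : oGroup Q →* ℤˣ}
    (hθ : ∀ v, Q v ≠ 0 → (θ (refl Q v) = 1 ↔ IsSquare (Q v)))
    {A : Type u} [AddCommGroup A] [Module F A] {R : QuadraticForm F A} {h : ℕ} (hh : 1 ≤ h) {ε : ℤ}
    (hE : EType (⇑R) h ε) {N : ℕ} (hN : (N : ℤ) = (Fintype.card F : ℤ) ^ h - ε) (hNe : Even N) (hN0 : 0 < N)
    {t : oGroup R} (htN : t ^ N = 1) (hfree : ∀ a : A, a ≠ 0 → ∀ i : ℕ, (t ^ i).1 a = a → N ∣ i)
    (hdimV : 2 ≤ finrank F V)
    {ι : A →ₗ[F] V} {π : V →ₗ[F] A} (hπ : ∀ a, π (ι a) = a) (hQι : ∀ a, Q (ι a) = R a)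
    (horth : ∀ a x, π x = 0 → polar Q (ι a) x = 0) {g : oGroup Q} (hgι : ∀ a, g.1 (ι a) = ι (t.1 a))
    (hgX : ∀ x, π x = 0 → g.1 x = x) (hdet : LinearMap.det (toEnd Q g) = 1) : θ g = -1 := by
  haveI : Finite V := Module.finite_of_finite F
  refine (Int.units_eq_one_or _).resolve_left fun h1 => ?_
  have hc : IsCompl (LinearMap.range ι) (LinearMap.ker π) := by
    refine ⟨Submodule.disjoint_def.2 ?_, codisjoint_iff.2 (eq_top_iff.2 fun v _ => ?_)⟩
    · rintro _ ⟨a, rfl⟩ ha
      rw [LinearMap.mem_ker, hπ] at ha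
      rw [ha, map_zero]
    · exact Submodule.mem_sup.2 ⟨ι (π v), ⟨_, rfl⟩, v - ι (π v),
        by rw [LinearMap.mem_ker, map_sub, hπ, sub_self], by abel⟩
  have hgpow : ∀ (i : ℕ) a, (g ^ i).1 (ι a) = ι ((t ^ i).1 a) := by
    intro i
    induction i with
    | zero => intro a; rfl
    | succ i ih =>
      intro a
      rw [CfsgLib.OrderBC.pow_map_add, ih, hgι, CfsgLib.OrderBC.pow_map_add]
  have hgN : g ^ N = 1 := Subtype.ext (LinearEquiv.ext fun v => by
    have hv : v = ι (π v) + (v - ι (π v)) := by abel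
    rw [hv, map_add, hgpow, htN, CfsgLib.OrderBC.pow_fix (hgX _ (by rw [map_sub, hπ, sub_self]))]
    rfl)
  have hinj : Function.Injective ι := fun a b e => by rw [← hπ a, e, hπ]
  have hcount : Nat.card {w : LinearMap.range ι // Q.comp (LinearMap.range ι).subtype w = 1} =
      Fintype.card F ^ (h - 1) * N := by
    rw [Nat.card_congr (Equiv.subtypeEquiv (LinearEquiv.ofInjective ι hinj).toEquiv (p := fun a => R a = 1)
      (q := fun w => Q.comp (LinearMap.range ι).subtype w = 1) fun a => by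
        show R a = 1 ↔ Q (ι a) = 1; rw [hQι]).symm]
    have hcs := card_sphere_of_etype hh hE (one_ne_zero : (1 : F) ≠ 0)
    rw [Nat.card_eq_fintype_card (α := F), ← hN] at hcs
    exact_mod_cast hcs
  refine CfsgLib.OrderBC.sphereSign_ne_one hc (fun w hw x hx => ?_) h2 hNe hN0 hgN (fun w hw => ?_) hgX
    (fun w hw hw0 i hi => ?_) (one_ne_zero : (1 : F) ≠ 0)
    (Odd.pow (Nat.odd_iff.2 (by simpa [Nat.card_eq_fintype_card] using odd_card_of_two_ne (F := F) h2))) hcount ?_
  · obtain ⟨a, rfl⟩ := hw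
    exact horth a x hx
  · obtain ⟨a, rfl⟩ := hw
    exact ⟨t.1 a, (hgι a).symm⟩
  · obtain ⟨a, rfl⟩ := hw
    rw [hgpow] at hi
    exact hfree a (fun e => hw0 (by rw [e, map_zero])) i (hinj hi)
  · refine Abelianization.commutator_subset_ker (sphereSign Q 1) ((mem_commutator_iff hQ h2 hdimV hθ g).2 ⟨?_, h1⟩)
    refine Units.ext ?_
    rw [detO_val, Units.val_one]
    exact hdet

end CfsgLib.SpecNine
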