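import Cfsg.Agent.SpecNine.Basic
import Cfsg.Agent.Quad.Concrete

/-!
Regular unipotent isometries in odd dimension, odd characteristic.
-/

set_option autoImplicit false
set_option linter.style.haveILetI false
set_option linter.unusedSectionVars false

namespace CfsgLib.SpecNine

open Module QuadraticMap CfsgLib.Forms CfsgLib.Quad
open CfsgLib.SpecSpEight (toEnd toEnd_apply oGroupCongr_toEnd)

universe u v

variable {F : Type u} [Field F] {W : Type v} [AddCommGroup W] [Module F W]

section ext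

variable [FiniteDimensional F W] (Q : QuadraticForm F W) (u : oGroup Q) (c : W)

/-- The extension of `u` by a hyperbolic plane, linear map. -/
def extHyp : ((F × F) × W) →ₗ[F] ((F × F) × W) where
  toFun p := ((p.1.1 - (polar Q (u.1 p.2) c + p.1.2 * Q c), p.1.2), u.1 p.2 + p.1.2 • c)
  map_add' p r := by
    refine Prod.ext (Prod.ext ?_ rfl) ?_
    · simp only [Prod.fst_add, Prod.snd_add, map_add, polar_add_left]; ring
    · simp only [Prod.fst_add, Prod.snd_add, map_add, add_smul]; abel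
  map_smul' t p := by
    refine Prod.ext (Prod.ext ?_ rfl) ?_
    · simp only [Prod.smul_fst, Prod.smul_snd, map_smul, polar_smul_left, smul_eq_mul, RingHom.id_apply]; ring
    · simp only [Prod.smul_fst, Prod.smul_snd, map_smul, smul_eq_mul, RingHom.id_apply, smul_add, mul_smul]

theorem extHyp_apply (p : (F × F) × W) :
    extHyp Q u c p = ((p.1.1 - (polar Q (u.1 p.2) c + p.1.2 * Q c), p.1.2), u.1 p.2 + p.1.2 • c) := rfl

theorem extHyp_injective : Function.Injective (extHyp Q u c) := fun p r h => by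
  rw [extHyp_apply, extHyp_apply, Prod.ext_iff, Prod.ext_iff] at h
  obtain ⟨⟨h1, h2⟩, h3⟩ := h
  simp only at h1 h2 h3
  rw [h2] at h3
  have h4 : p.2 = r.2 := u.1.injective (add_right_cancel h3)
  rw [h2, h4] at h1
  exact Prod.ext (Prod.ext (sub_left_inj.1 h1) h2) h4

/-- The extension of `u` by a hyperbolic plane. -/
noncomputable def extHypIso : oGroup (hypSum Q) :=
  ⟨LinearEquiv.ofInjectiveEndo (extHyp Q u c) (extHyp_injective Q u c), fun p => by
    show hypSum Q (extHyp Q u c p) = hypSum Q p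
    rw [extHyp_apply, hypSum_apply, hypSum_apply, quad_add, quad_smul, polar_smul_right, u.2]
    simp only [smul_eq_mul]
    ring⟩

local notation "D" => toEnd Q u - 1

local notation "E" => toEnd (hypSum Q) (extHypIso Q u c) - 1

theorem extHyp_dev (p : (F × F) × W) :
    E p = ((-(polar Q (u.1 p.2) c + p.1.2 * Q c), 0), D p.2 + p.1.2 • c) := by
  rw [LinearMap.sub_apply, toEnd_apply, Module.End.one_apply]
  show extHyp Q u c p - p = _
  rw [extHyp_apply]
  refine Prod.ext (Prod.ext ?_ ?_) ?_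
  · show p.1.1 - _ - p.1.1 = _
    ring
  · exact sub_self p.1.2
  · show u.1 p.2 + p.1.2 • c - p.2 = u.1 p.2 - p.2 + p.1.2 • c
    abel

theorem extHyp_dev_iter : ∀ (k : ℕ) (x : F) (w : W),
    (E ^ (k + 1)) ((x, 0), w) = ((-polar Q (u.1 ((D ^ k) w)) c, 0), (D ^ (k + 1)) w)
  | 0, x, w => by
    rw [pow_one, pow_zero, pow_one, extHyp_dev]
    simp
  | k + 1, x, w => by
    rw [pow_succ' E (k + 1), Module.End.mul_apply, extHyp_dev_iter k x w, extHyp_dev]
    refine Prod.ext (Prod.ext ?_ rfl) ?_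
    · simp
    · rw [pow_succ' D (k + 1), Module.End.mul_apply]; simp

theorem extHyp_dev_f (k : ℕ) :
    (E ^ (k + 2)) ((0, 1), (0 : W)) = ((-polar Q (u.1 ((D ^ k) c)) c, 0), (D ^ (k + 1)) c) := by
  rw [pow_succ E (k + 1), Module.End.mul_apply, extHyp_dev]
  simp only [map_zero, zero_add, one_smul, polar_zero_left, one_mul]
  exact extHyp_dev_iter Q u c k _ _

theorem extHyp_nil {m : ℕ} (hm : D ^ m = 0) : E ^ (m + 2) = 0 := by
  refine LinearMap.ext fun p => ?_
  rw [pow_succ E (m + 1), Module.End.mul_apply, extHyp_dev]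
  generalize D p.2 + p.1.2 • c = w
  rw [extHyp_dev_iter, hm, pow_succ, hm, zero_mul]
  simp

end ext

theorem hyp_step [FiniteDimensional F W] (h2 : (2 : F) ≠ 0) {Q : QuadraticForm F W}
    (hQ : (polarBilin Q).Nondegenerate) {k : ℕ} {u : oGroup Q} (h0 : (toEnd Q u - 1) ^ (2 * k + 1) = 0)
    (h1 : (toEnd Q u - 1) ^ (2 * k) ≠ 0) :
    ∃ c, (toEnd (hypSum Q) (extHypIso Q u c) - 1) ^ (2 * (k + 1) + 1) = 0 ∧
      (toEnd (hypSum Q) (extHypIso Q u c) - 1) ^ (2 * (k + 1)) ≠ 0 := by
  have hgi : ∀ x y, polarBilin Q (toEnd Q u x) (toEnd Q u y) = polarBilin Q x y := fun x y => by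
    rw [toEnd_apply, toEnd_apply, polarBilin_apply_apply, polarBilin_apply_apply, polar_oGroup]
  set N := toEnd Q u - 1 with hN
  have hsym : ∀ x y, polar Q ((N ^ (2 * k)) x) y = polar Q x ((N ^ (2 * k)) y) := fun x y => by
    have := top_layer_symm hgi h0 x y
    rwa [(even_two_mul k).neg_one_pow, one_mul] at this
  obtain ⟨c, hc⟩ : ∃ c, polar Q ((N ^ (2 * k)) c) c ≠ 0 := by
    by_contra hc
    push Not at hc
    refine h1 (LinearMap.ext fun x => hQ.1 _ fun y => ?_)
    have h3 := hc (x + y)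
    rw [map_add, polar_add_left, polar_add_right, polar_add_right, hc, hc, hsym y x,
      polar_comm (⇑Q) y ((N ^ (2 * k)) x)] at h3
    rw [polarBilin_apply_apply]
    exact (mul_eq_zero.1 (show (2 : F) * polar Q ((N ^ (2 * k)) x) y = 0 by linear_combination h3)).resolve_left h2
  refine ⟨c, ?_, fun e => hc ?_⟩
  · rw [show 2 * (k + 1) + 1 = 2 * k + 1 + 2 by ring]
    exact extHyp_nil Q u c h0
  · have h3 := extHyp_dev_f Q u c (2 * k)
    rw [show 2 * k + 2 = 2 * (k + 1) by ring, e, LinearMap.zero_apply] at h3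
    have h4 := congrArg (fun x : (F × F) × W => x.1.1) h3
    simp only [Prod.fst_zero] at h4
    have hfix : u.1 ((N ^ (2 * k)) c) = (N ^ (2 * k)) c := by
      have h5 : N ((N ^ (2 * k)) c) = 0 := by rw [← Module.End.mul_apply, ← pow_succ', h0]; rfl
      rw [hN, LinearMap.sub_apply, Module.End.one_apply, sub_eq_zero] at h5
      exact h5
    rw [hfix] at h4
    exact neg_eq_zero.1 h4.symm

/-- A regular unipotent isometry of `oddQ k`. -/
theorem exists_regular (h2 : (2 : F) ≠ 0) : ∀ k : ℕ, ∃ u : oGroup (oddQ (F := F) k),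
    (toEnd _ u - 1) ^ (2 * k + 1) = 0 ∧ (toEnd _ u - 1) ^ (2 * k) ≠ 0
  | 0 => ⟨1, by rw [map_one, sub_self, mul_zero, zero_add, pow_one], by
      rw [mul_zero, pow_zero]; exact one_ne_zero⟩
  | k + 1 => by
    obtain ⟨u, h0, h1⟩ := exists_regular h2 k
    obtain ⟨c, e0, e1⟩ := hyp_step h2 (oddQ_nondeg h2 k) h0 h1
    let φ := (oddSplit (F := F) k).symm
    have hφ : ∀ v, oddQ (k + 1) (φ v) = hypSum (oddQ (F := F) k) v := fun v => by
      rw [← oddSplit_apply (F := F) k (φ v), LinearEquiv.apply_symm_apply]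
    have hconj : toEnd _ (oGroupCongr φ hφ (extHypIso _ u c)) - 1 =
        φ.conjAlgEquiv F (toEnd _ (extHypIso _ u c) - 1) := by
      rw [oGroupCongr_toEnd, map_sub, map_one]
    refine ⟨oGroupCongr φ hφ (extHypIso _ u c), ?_, fun e => e1 ?_⟩
    · rw [hconj, ← map_pow, e0, map_zero]
    · rw [hconj, ← map_pow] at e
      exact (φ.conjAlgEquiv F).injective (e.trans (map_zero _).symm)

end CfsgLib.SpecNine
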